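import Groth.Prelude.Def_AlgSp
import Mathlib

/-!
# Flat base change for global sections, in tensor product form
-/

set_option autoImplicit false

universe u

open CategoryTheory CategoryTheory.Limits AlgebraicGeometry Opposite TensorProduct
  Algebra.TensorProduct

namespace Groth.Agent.H5.Descent

variable {S : Scheme.{u}}

/-- The ring map on global sections induced by a morphism over `S`. -/
noncomputable def sharp {X Y : Over S} (k : X ⟶ Y) : Γ(Y.left, ⊤) →+* Γ(X.left, ⊤) :=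
  k.left.appTop.hom

lemma sharp_comp {X Y Z : Over S} (k : X ⟶ Y) (l : Y ⟶ Z) :
    sharp (k ≫ l) = (sharp k).comp (sharp l) := by
  unfold sharp
  rw [Over.comp_left, Scheme.Hom.comp_appTop]
  rfl

lemma sharp_comp_apply {X Y Z : Over S} (k : X ⟶ Y) (l : Y ⟶ Z) (a : Γ(Z.left, ⊤)) :
    sharp (k ≫ l) a = sharp k (sharp l a) := by
  rw [sharp_comp]
  rfl

lemma sharp_id (X : Over S) : sharp (𝟙 X) = RingHom.id _ := by
  unfold sharp
  rw [Over.id_left, Scheme.Hom.id_appTop]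
  rfl

lemma appLE_top_top {X Y : Scheme.{u}} (f : X ⟶ Y) (e : (⊤ : X.Opens) ≤ f ⁻¹ᵁ ⊤) :
    f.appLE ⊤ ⊤ e = f.appTop := f.appLE_eq_app

/-- Flat base change for global sections (Mathlib), for the whole scheme. -/
theorem isPushout_appTop {X Y T₀ T₁ : Scheme.{u}} {f : T₁ ⟶ T₀} {g : Y ⟶ X} {iX : X ⟶ T₀}
    {iY : Y ⟶ T₁} (H : IsPullback g iY iX f) [Flat f] [IsAffine T₀] [IsAffine T₁]
    [CompactSpace X] [QuasiSeparatedSpace X] :
    IsPushout iX.appTop f.appTop g.appTop iY.appTop := by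
  have h1 : (⊤ : T₁.Opens) ≤ f ⁻¹ᵁ ⊤ := le_rfl
  have h2 : (⊤ : X.Opens) ≤ iX ⁻¹ᵁ ⊤ := le_rfl
  have h3 : (⊤ : Y.Opens) = g ⁻¹ᵁ ⊤ ⊓ iY ⁻¹ᵁ ⊤ := by simp
  have := isIso_pushoutSection_of_isQuasiSeparated_of_flat_right H h1 h2 h3 (isAffineOpen_top T₀)
    (isAffineOpen_top T₁) isCompact_univ isQuasiSeparated_univ
  have := (isIso_pushoutSection_iff H h1 h2 h3).1 this
  simpa only [appLE_top_top] using this

/-- Flat base change for global sections in tensor product form. -/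
theorem exists_ringEquiv_of_isPullback {X Y T₀ T₁ : Over S} {f : T₁ ⟶ T₀} {g : Y ⟶ X}
    {iX : X ⟶ T₀} {iY : Y ⟶ T₁} (H : IsPullback g iY iX f) [Flat f.left] [IsAffine T₀.left]
    [IsAffine T₁.left] [CompactSpace X.left] [QuasiSeparatedSpace X.left]
    [Algebra Γ(T₀.left, ⊤) Γ(T₁.left, ⊤)] [Algebra Γ(T₀.left, ⊤) Γ(X.left, ⊤)]
    (h₁ : algebraMap Γ(T₀.left, ⊤) Γ(T₁.left, ⊤) = sharp f)
    (h₂ : algebraMap Γ(T₀.left, ⊤) Γ(X.left, ⊤) = sharp iX) :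
    ∃ ψ : Γ(T₁.left, ⊤) ⊗[Γ(T₀.left, ⊤)] Γ(X.left, ⊤) ≃+* Γ(Y.left, ⊤),
      ∀ a b, ψ (a ⊗ₜ b) = sharp iY a * sharp g b := by
  have H' : IsPullback g.left iY.left iX.left f.left := H.map (Over.forget S)
  have P1 := (isPushout_appTop H').flip
  have P2 := CommRingCat.isPushout_tensorProduct Γ(T₀.left, ⊤) Γ(T₁.left, ⊤) Γ(X.left, ⊤)
  have e1 : CommRingCat.ofHom (algebraMap Γ(T₀.left, ⊤) Γ(T₁.left, ⊤)) = f.left.appTop := by
    rw [h₁]; rfl
  have e2 : CommRingCat.ofHom (algebraMap Γ(T₀.left, ⊤) Γ(X.left, ⊤)) = iX.left.appTop := by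
    rw [h₂]; rfl
  rw [e1, e2] at P2
  let i := P2.isoIsPushout _ _ P1
  refine ⟨i.commRingCatIsoToRingEquiv, fun a b => ?_⟩
  have hl : ∀ a, i.hom (a ⊗ₜ 1) = sharp iY a := fun a => by
    have := congrArg (fun φ => φ.hom a) (P2.inl_isoIsPushout_hom _ _ P1)
    exact this
  have hr : ∀ b, i.hom (1 ⊗ₜ b) = sharp g b := fun b => by
    have := congrArg (fun φ => φ.hom b) (P2.inr_isoIsPushout_hom _ _ P1)
    exact this
  change i.hom (a ⊗ₜ b) = _
  have : a ⊗ₜ[Γ(T₀.left, ⊤)] b = (a ⊗ₜ 1) * (1 ⊗ₜ b) := by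
    rw [Algebra.TensorProduct.tmul_mul_tmul, mul_one, one_mul]
  rw [this, map_mul, hl, hr]

end Groth.Agent.H5.Descent
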