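import Groth.Agent.Lib.Helper5.Descent.AffineMorDescent
import Groth.Agent.Lib.Helper5.AlgSp.PointsTop
import Mathlib

/-!
# Immersions descend along fppf covers (sheaf version)
-/

set_option autoImplicit false

universe u

open CategoryTheory CategoryTheory.Limits AlgebraicGeometry Opposite

namespace Groth.Agent.H5.Descent

open _root_.AlgSp Groth.Agent.H5.AlgSp

variable {S : Scheme.{u}}

/-- Epi–mono factorisation lifting in `Sp S`. -/
lemma exists_factor_of_epi_of_mono {F G H P : Sp S} (u : P ⟶ F) [Epi u] (m : H ⟶ G) [Mono m]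
    (π : F ⟶ G) (a : P ⟶ H) (h : u ≫ π = a ≫ m) :
    ∃ π' : F ⟶ H, π' ≫ m = π ∧ u ≫ π' = a := by
  have : EffectiveEpi u :=
    (isRegularEpi_iff_effectiveEpi u).1 (IsRegularEpiCategory.regularEpiOfEpi u)
  have hco : ∀ {Z : Sp S} (g₁ g₂ : Z ⟶ P), g₁ ≫ u = g₂ ≫ u → g₁ ≫ a = g₂ ≫ a := by
    intro Z g₁ g₂ hg
    rw [← cancel_mono m, Category.assoc, Category.assoc, ← h, ← Category.assoc, hg,
      Category.assoc]
  refine ⟨EffectiveEpi.desc u a hco, ?_, EffectiveEpi.fac _ _ _⟩
  rw [← cancel_epi u, ← Category.assoc, EffectiveEpi.fac, h]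

section

variable {T T' W' : Over S} (c : T' ⟶ T) (v : W' ⟶ T') {F : Sp S}
  (π : F ⟶ (yon S).obj T) (u : (yon S).obj W' ⟶ F)

/-- The range of `v` is saturated for the equivalence relation defined by `c`. -/
lemma mem_range_of_isPullback (sq : IsPullback u ((yon S).map v) π ((yon S).map c))
    {t₁ t₂ : T'.left} (h : c.left t₁ = c.left t₂)
    (h₁ : t₁ ∈ Set.range v.left) : t₂ ∈ Set.range v.left := by
  obtain ⟨w, rfl⟩ := h₁
  have sqY := IsPullback.of_hasPullback (v ≫ c) c
  have sqY' := sqY.map (Over.forget S)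
  obtain ⟨y, hy1, hy2⟩ := Scheme.exists_preimage_of_isPullback sqY' w t₂ h
  have hw : ((yon S).map (pullback.fst (v ≫ c) c) ≫ u) ≫ π =
      (yon S).map (pullback.snd (v ≫ c) c) ≫ (yon S).map c := by
    rw [Category.assoc, sq.w, ← Functor.map_comp, ← Functor.map_comp, ← Functor.map_comp,
      ← sqY.w]
  obtain ⟨l, hl⟩ := (yon S).map_surjective (sq.lift _ _ hw)
  have hl2 : l ≫ v = pullback.snd (v ≫ c) c :=
    (yon S).map_injective (by rw [Functor.map_comp, hl, sq.lift_snd])
  refine ⟨l.left y, ?_⟩
  rw [← hy2]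
  change _ = (pullback.snd (v ≫ c) c).left y
  rw [← hl2]
  rfl

/-- The coborder of the range of `v` is saturated for the equivalence relation defined by `c`. -/
lemma mem_coborder_of_isPullback [Flat c.left] [LocallyOfFinitePresentation c.left]
    (sq : IsPullback u ((yon S).map v) π ((yon S).map c))
    {t₁ t₂ : T'.left} (h : c.left t₁ = c.left t₂)
    (h₁ : t₁ ∈ coborder (Set.range v.left)) : t₂ ∈ coborder (Set.range v.left) := by
  let p₁ := pullback.fst c.left c.left
  let p₂ := pullback.snd c.left c.left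
  have hp₁ : IsOpenMap p₁ := p₁.isOpenMap
  have hp₂ : IsOpenMap p₂ := p₂.isOpenMap
  have hcond : ∀ z, c.left (p₁ z) = c.left (p₂ z) := by
    intro z
    rw [← Scheme.Hom.comp_apply, ← Scheme.Hom.comp_apply, pullback.condition]
  have heq : p₁ ⁻¹' (Set.range v.left) = p₂ ⁻¹' (Set.range v.left) := by
    ext z
    exact ⟨fun hz => mem_range_of_isPullback c v π u sq (hcond z) hz,
      fun hz => mem_range_of_isPullback c v π u sq (hcond z).symm hz⟩
  have heq2 : p₁ ⁻¹' (coborder (Set.range v.left)) = p₂ ⁻¹' (coborder (Set.range v.left)) := by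
    rw [← coborder_preimage hp₁ p₁.continuous, ← coborder_preimage hp₂ p₂.continuous, heq]
  obtain ⟨z, hz1, hz2⟩ := Scheme.Pullback.exists_preimage_pullback (f := c.left) (g := c.left)
    t₁ t₂ h
  have hz : z ∈ p₁ ⁻¹' (coborder (Set.range v.left)) := by
    rw [Set.mem_preimage, hz1]
    exact h₁
  rw [heq2, Set.mem_preimage, hz2] at hz
  exact hz

lemma isClosedImmersion_le_isAffineHom :
    (@IsClosedImmersion : MorphismProperty Scheme.{u}) ≤ @IsAffineHom := fun _ _ _ h => by
  have := h
  infer_instance

/-- `T' → T` an fppf cover, `W' → T'` an immersion. -/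
theorem exists_descent_of_isImmersion [Flat c.left] [Surjective c.left]
    [LocallyOfFinitePresentation c.left] [IsImmersion v.left]
    (sq : IsPullback u ((yon S).map v) π ((yon S).map c)) :
    ∃ (W : Over S) (w : W ⟶ T) (e : (yon S).obj W ≅ F),
      IsImmersion w.left ∧ e.hom ≫ π = (yon S).map w := by
  set R : Set T'.left := Set.range v.left with hR
  have hRlc : IsLocallyClosed R := v.left.isLocallyClosed_range
  let U : T.left.Opens := ⟨c.left '' (coborder R), c.left.isOpenMap _ hRlc.isOpen_coborder⟩
  have hUeq : ((c.left ⁻¹ᵁ U : T'.left.Opens) : Set T'.left) = coborder R := by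
    ext t
    constructor
    · rintro ⟨t₁, ht₁, h⟩
      exact mem_coborder_of_isPullback c v π u sq h ht₁
    · intro ht
      exact ⟨t, ht, rfl⟩
  let U' : T'.left.Opens := c.left ⁻¹ᵁ U
  let TU : Over S := overOpen T U
  let T'U : Over S := overOpen T' U'
  let cU : T'U ⟶ TU := Over.homMk (c.left ∣_ U) (by
    change (c.left ∣_ U) ≫ U.ι ≫ T.hom = U'.ι ≫ T'.hom
    rw [← Over.w c, morphismRestrict_ι_assoc])
  have hwR : cU ≫ overOpenι T U = overOpenι T' U' ≫ c := by
    ext
    exact morphismRestrict_ι c.left U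
  have sqR : IsPullback cU (overOpenι T' U') (overOpenι T U) c :=
    IsPullback.of_map (Over.forget S) hwR (isPullback_morphismRestrict c.left U)
  have hcU1 : Flat cU.left :=
    MorphismProperty.of_isPullback (P := @Flat) (isPullback_morphismRestrict c.left U).flip
      inferInstance
  have hcU2 : LocallyOfFinitePresentation cU.left :=
    MorphismProperty.of_isPullback (P := @LocallyOfFinitePresentation)
      (isPullback_morphismRestrict c.left U).flip inferInstance
  have hcU3 : Surjective cU.left :=
    MorphismProperty.of_isPullback (P := @Surjective)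
      (isPullback_morphismRestrict c.left U).flip inferInstance
  -- `v` factors through `U'`
  have hvU : Set.range v.left ⊆ Set.range U'.ι := by
    rw [Scheme.Opens.range_ι, hUeq]
    exact subset_coborder
  let vU₀ : W'.left ⟶ U'.toScheme := IsOpenImmersion.lift U'.ι v.left hvU
  have hvU₀ : vU₀ ≫ U'.ι = v.left := IsOpenImmersion.lift_fac _ _ _
  let vU : W' ⟶ T'U := Over.homMk vU₀ (by
    change vU₀ ≫ U'.ι ≫ T'.hom = W'.hom
    rw [← Category.assoc, hvU₀, Over.w v])
  have hvUι : vU ≫ overOpenι T' U' = v := by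
    ext
    exact hvU₀
  have hvUcl : IsClosedImmersion vU.left := by
    change IsClosedImmersion vU₀
    have h1 : IsPreimmersion (vU₀ ≫ U'.ι) := by
      rw [hvU₀]
      infer_instance
    have h2 : IsPreimmersion vU₀ := .of_comp vU₀ U'.ι
    refine .of_isPreimmersion _ ?_
    rw [U'.ι.isEmbedding.isInducing.isClosed_iff]
    refine ⟨closure R, isClosed_closure, ?_⟩
    ext a
    constructor
    · intro ha
      have ha1 : U'.ι a ∈ coborder R := by
        rw [← hUeq]
        exact a.2
      have ha2 : U'.ι a ∈ R := by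
        rw [← coborder_inter_closure (s := R)]
        exact ⟨ha1, ha⟩
      obtain ⟨w, hw⟩ := ha2
      refine ⟨w, U'.ι.isEmbedding.injective ?_⟩
      rw [← Scheme.Hom.comp_apply, hvU₀, hw]
    · rintro ⟨w, rfl⟩
      apply subset_closure
      refine ⟨w, ?_⟩
      rw [← Scheme.Hom.comp_apply, hvU₀]
  -- `π` factors through `h_U`
  have : Sheaf.IsLocallySurjective ((yon S).map c) :=
    isLocallySurjective_of_repWith _ ((repWith_yon_map_iff @Flat _).2 inferInstance)
      ((repWith_yon_map_iff @LocallyOfFinitePresentation _).2 inferInstance)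
      ((repWith_yon_map_iff @Surjective _).2 inferInstance)
  have : Sheaf.IsLocallySurjective u := isLocallySurjective_of_isPullback sq.flip
  have hepi : Epi u := inferInstance
  have : Mono (overOpenι T U) := by
    have : Mono ((Over.forget S).map (overOpenι T U)) := by
      change Mono U.ι
      infer_instance
    exact (Over.forget S).mono_of_mono_map this
  have hmono : Mono ((yon S).map (overOpenι T U)) := inferInstance
  obtain ⟨πU, hπU, huπU⟩ := exists_factor_of_epi_of_mono u ((yon S).map (overOpenι T U)) π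
    ((yon S).map (vU ≫ cU)) (by
      rw [sq.w, ← Functor.map_comp, ← Functor.map_comp, Category.assoc, hwR, ← Category.assoc,
        hvUι])
  have sqU : IsPullback u ((yon S).map vU) πU ((yon S).map cU) := by
    refine IsPullback.of_bot (v₂₁ := (yon S).map (overOpenι T' U'))
      (v₂₂ := (yon S).map (overOpenι T U)) (h₃₁ := (yon S).map c) ?_ ?_ (sqR.map (yon S))
    · rw [hπU, ← Functor.map_comp, hvUι]
      exact sq
    · rw [huπU, Functor.map_comp]
  have hcl : RepWith @IsClosedImmersion πU :=
    repWith_of_baseChange_of_le_isAffineHom isClosedImmersion_le_isAffineHom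
      ((repWith_yon_map_iff @Flat _).2 hcU1)
      ((repWith_yon_map_iff @LocallyOfFinitePresentation _).2 hcU2)
      ((repWith_yon_map_iff @Surjective _).2 hcU3) sqU
      ((repWith_yon_map_iff @IsClosedImmersion _).2 hvUcl)
  have sqZ := hcl.rep.isPullback (𝟙 ((yon S).obj TU))
  have hz : IsClosedImmersion (hcl.rep.snd (𝟙 ((yon S).obj TU))).left := hcl.property_snd _
  have : IsIso (hcl.rep.fst (𝟙 ((yon S).obj TU))) := sqZ.isIso_fst_of_isIso
  refine ⟨_, hcl.rep.snd (𝟙 ((yon S).obj TU)) ≫ overOpenι T U,
    asIso (hcl.rep.fst (𝟙 ((yon S).obj TU))), ?_, ?_⟩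
  · rw [Over.comp_left]
    change IsImmersion (_ ≫ U.ι)
    infer_instance
  · rw [asIso_hom, ← hπU, ← Category.assoc, sqZ.w, Category.comp_id, Functor.map_comp]

end

variable {F G H : Sp S}

/-- **Immersions descend along representable fppf covers.** -/
theorem repWith_isImmersion_of_baseChange {f : F ⟶ G} {b : H ⟶ G} (hb1 : RepWith @Flat b)
    (hb2 : RepWith @LocallyOfFinitePresentation b) (hb3 : RepWith @Surjective b) {P : Sp S}
    {fst : P ⟶ F} {snd : P ⟶ H} (sq : IsPullback fst snd f b) (h' : RepWith @IsImmersion snd) :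
    RepWith @IsImmersion f := by
  apply MorphismProperty.relative.of_exists
  intro Z g
  -- `T' = H ×_G Z`
  have sqb := hb1.rep.isPullback g
  set τ := hb1.rep.fst g with hτ
  set c := hb1.rep.snd g with hc
  have hc1 : Flat c.left := hb1.property_snd g
  have hc2 : LocallyOfFinitePresentation c.left := hb2.property _ _ _ sqb
  have hc3 : Surjective c.left := hb3.property _ _ _ sqb
  -- `W' = P ×_H T'`
  have sqv := h'.rep.isPullback τ
  set v := h'.rep.snd τ with hv
  have hv1 : IsImmersion v.left := h'.property_snd τ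
  have big : IsPullback (h'.rep.fst τ ≫ fst) ((yon S).map v) f ((yon S).map c ≫ g) := by
    rw [← sqb.w]
    exact sqv.paste_horiz sq
  have sqP := IsPullback.of_hasPullback f g
  have hw : (h'.rep.fst τ ≫ fst) ≫ f = ((yon S).map v ≫ (yon S).map c) ≫ g := by
    rw [Category.assoc _ _ g]
    exact big.w
  have sqD : IsPullback (sqP.lift _ _ hw) ((yon S).map v) (pullback.snd f g) ((yon S).map c) := by
    apply IsPullback.of_right (h₁₂ := pullback.fst f g) (h₂₂ := g) _ (sqP.lift_snd _ _ _) sqP
    rw [sqP.lift_fst]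
    exact big
  obtain ⟨W, w, e, hW, he⟩ := exists_descent_of_isImmersion c v (pullback.snd f g) _ sqD
  refine ⟨W, e.hom ≫ pullback.fst f g, w, ?_, hW⟩
  refine IsPullback.of_iso sqP e.symm (Iso.refl _) (Iso.refl _) (Iso.refl _) (by simp) ?_
    (by simp) (by simp)
  rw [Iso.refl_hom, Category.comp_id, Iso.symm_hom, ← he, Iso.inv_hom_id_assoc]

/-- Open immersions descend along representable fppf covers. -/
theorem repWith_isOpenImmersion_of_baseChange {f : F ⟶ G} {b : H ⟶ G} (hb1 : RepWith @Flat b)
    (hb2 : RepWith @LocallyOfFinitePresentation b) (hb3 : RepWith @Surjective b) {P : Sp S}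
    {fst : P ⟶ F} {snd : P ⟶ H} (sq : IsPullback fst snd f b)
    (h' : RepWith @IsOpenImmersion snd) : RepWith @IsOpenImmersion f := by
  have h1 : RepWith @IsImmersion snd :=
    repWith_mono (fun _ _ _ h => by have := h; infer_instance) h'
  have hrep : Representable f := (repWith_isImmersion_of_baseChange hb1 hb2 hb3 sq h1).rep
  have : Sheaf.IsLocallySurjective b := isLocallySurjective_of_repWith b hb1 hb2 hb3
  exact repWith_of_locallySurjective_baseChange f hrep b fst snd sq _ h'

/-- Closed immersions descend along representable fppf covers. -/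
theorem repWith_isClosedImmersion_of_baseChange {f : F ⟶ G} {b : H ⟶ G} (hb1 : RepWith @Flat b)
    (hb2 : RepWith @LocallyOfFinitePresentation b) (hb3 : RepWith @Surjective b) {P : Sp S}
    {fst : P ⟶ F} {snd : P ⟶ H} (sq : IsPullback fst snd f b)
    (h' : RepWith @IsClosedImmersion snd) : RepWith @IsClosedImmersion f :=
  repWith_of_baseChange_of_le_isAffineHom isClosedImmersion_le_isAffineHom hb1 hb2 hb3 sq h'

end Groth.Agent.H5.Descent
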