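import Groth.Agent.Lib.Helper5.Descent.QuasiAffineDescent
import Groth.Agent.Lib.Helper5.AlgSp.OpenSubspace
import Groth.Agent.Lib.Helper5.AlgSp.LocalRep
import Groth.Agent.Lib.Helper5.AlgSp.UnivClosed2
import Mathlib

/-!
# Effective fppf descent for separated locally quasi-finite morphisms (sheaf version)
-/

set_option autoImplicit false

universe u

open CategoryTheory CategoryTheory.Limits AlgebraicGeometry Opposite

namespace Groth.Agent.H5.Descent

open _root_.AlgSp Groth.Agent.H5.AlgSp

variable {S : Scheme.{u}}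

/-- Zariski's main theorem: a quasi-compact scheme separated, locally quasi-finite and locally of
finite type over an affine scheme is quasi-affine. -/
theorem isQuasiAffine_of_isSeparated_of_locallyQuasiFinite {X Y : Scheme.{u}} (φ : X ⟶ Y)
    [IsAffine Y] [CompactSpace X] [IsSeparated φ] [LocallyQuasiFinite φ]
    [LocallyOfFiniteType φ] : X.IsQuasiAffine := by
  have : QuasiCompact φ := inferInstance
  have : IsOpenImmersion φ.toNormalization := inferInstance
  have : IsAffineHom φ.fromNormalization := inferInstance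
  have : IsAffine φ.normalization := isAffine_of_isAffineHom φ.fromNormalization
  exact Scheme.IsQuasiAffine.of_isImmersion φ.toNormalization

section

variable {T T' W' : Over S} (c : T' ⟶ T) (v : W' ⟶ T') {F : Sp S}
  (π : F ⟶ (yon S).obj T) (u : (yon S).obj W' ⟶ F)

/-- The action map `T' ×_T W' ⟶ W'` and the groupoid square `h_{W'} ×_F h_{W'} = T' ×_T W'`. -/
theorem exists_act (sq : IsPullback u ((yon S).map v) π ((yon S).map c)) :
    ∃ act : pullback c (v ≫ c) ⟶ W', act ≫ v = pullback.fst c (v ≫ c) ∧
      IsPullback ((yon S).map act) ((yon S).map (pullback.snd c (v ≫ c))) u u := by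
  have sqW2 := IsPullback.of_hasPullback c (v ≫ c)
  set q₁ := pullback.fst c (v ≫ c) with hq₁
  set q₂ := pullback.snd c (v ≫ c) with hq₂
  have hcompat : ((yon S).map q₂ ≫ u) ≫ π = (yon S).map q₁ ≫ (yon S).map c := by
    rw [Category.assoc, sq.w, ← Functor.map_comp, ← Functor.map_comp, ← Functor.map_comp,
      sqW2.w]
  obtain ⟨act, hact⟩ := (yon S).map_surjective (sq.lift _ _ hcompat)
  have hact1 : (yon S).map act ≫ u = (yon S).map q₂ ≫ u := by rw [hact, sq.lift_fst]
  have hact2 : act ≫ v = q₁ := by
    apply (yon S).map_injective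
    rw [Functor.map_comp, hact, sq.lift_snd]
  have hext : ∀ {Z : Over S} (k l : Z ⟶ W'), (yon S).map k ≫ u = (yon S).map l ≫ u →
      k ≫ v = l ≫ v → k = l := by
    intro Z k l h h'
    apply (yon S).map_injective
    apply sq.hom_ext h
    rw [← Functor.map_comp, ← Functor.map_comp, h']
  refine ⟨act, hact2, isPullback_of_yon hact1 ?_⟩
  intro X x y hxy
  obtain ⟨x', rfl⟩ := (yon S).map_surjective x
  obtain ⟨y', rfl⟩ := (yon S).map_surjective y
  let z : X ⟶ pullback c (v ≫ c) := pullback.lift (x' ≫ v) y' (by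
    have h0 := congrArg (· ≫ π) hxy
    simp only [Category.assoc, sq.w] at h0
    rw [← Functor.map_comp_assoc, ← Functor.map_comp_assoc, ← Functor.map_comp,
      ← Functor.map_comp] at h0
    rw [Category.assoc]
    exact (yon S).map_injective h0)
  have hz1 : z ≫ q₁ = x' ≫ v := pullback.lift_fst _ _ _
  have hz2 : z ≫ q₂ = y' := pullback.lift_snd _ _ _
  have hz3 : z ≫ act = x' := by
    apply hext
    · rw [Functor.map_comp, Category.assoc, hact1, ← Category.assoc, ← Functor.map_comp, hz2,
        hxy]
    · rw [Category.assoc, hact2, hz1]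
  refine ⟨(yon S).map z, ⟨by rw [← Functor.map_comp, hz3], by rw [← Functor.map_comp, hz2]⟩, ?_⟩
  rintro w ⟨hw1, hw2⟩
  obtain ⟨w', rfl⟩ := (yon S).map_surjective w
  congr 1
  rw [← Functor.map_comp] at hw1 hw2
  have hw1' := (yon S).map_injective hw1
  have hw2' := (yon S).map_injective hw2
  apply pullback.hom_ext
  · change w' ≫ q₁ = z ≫ q₁
    rw [hz1, ← hact2, ← Category.assoc, hw1']
  · change w' ≫ q₂ = z ≫ q₂
    rw [hz2, hw2']

/-- The saturation of a subset of `W'` for the equivalence relation `W' ×_F W'`. -/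
theorem preimage_image_ofPt {act : pullback c (v ≫ c) ⟶ W'}
    (sqA : IsPullback ((yon S).map act) ((yon S).map (pullback.snd c (v ≫ c))) u u)
    (V : Set W'.left) :
    Points.ofPt u ⁻¹' (Points.ofPt u '' V) =
      act.left '' ((pullback.snd c (v ≫ c)).left ⁻¹' V) := by
  ext w
  constructor
  · rintro ⟨w₀, hw₀, h⟩
    -- `h : ofPt u w₀ = ofPt u w`
    have h' : Points.map u (Points.ofScheme W' w) = Points.ofPt u w₀ := by
      rw [← Points.ofPt_eq_map_ofScheme, h]
    obtain ⟨z, hz1, hz2⟩ := exists_point_of_isPullback sqA (Points.ofScheme W' w) w₀ h'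
    refine ⟨z, ?_, ?_⟩
    · change (pullback.snd c (v ≫ c)).left z ∈ V
      rw [hz1]
      exact hw₀
    · have h3 : Points.ofPt ((yon S).map act) z = Points.ofScheme W' (act.left z) := by
        have := ofPt_yon_map_comp act (𝟙 ((yon S).obj W')) z
        rwa [Category.comp_id] at this
      rw [h3] at hz2
      exact (Points.schemeEquiv W').injective hz2
  · rintro ⟨z, hz, rfl⟩
    refine ⟨(pullback.snd c (v ≫ c)).left z, hz, ?_⟩
    rw [← ofPt_yon_map_comp, ← ofPt_yon_map_comp, sqA.w]

lemma flat_lfp_isOpenMap {X Y : Scheme.{u}} (f : X ⟶ Y)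
    (hf : (@Flat ⊓ @LocallyOfFinitePresentation : MorphismProperty Scheme.{u}) f) :
    IsOpenMap f := by
  have : Flat f := hf.1
  have : LocallyOfFinitePresentation f := hf.2
  exact f.isOpenMap

/-- **Effective descent for separated locally quasi-finite morphisms**, affine case. -/
theorem exists_descent_of_sepLQF_of_isAffine [IsAffine T.left] [IsAffine T'.left]
    [Flat c.left] [Surjective c.left] [LocallyOfFinitePresentation c.left]
    [IsSeparated v.left] [LocallyQuasiFinite v.left] [LocallyOfFiniteType v.left]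
    (sq : IsPullback u ((yon S).map v) π ((yon S).map c)) :
    ∃ (W : Over S) (w : W ⟶ T) (e : (yon S).obj W ≅ F), e.hom ≫ π = (yon S).map w := by
  obtain ⟨act, hact2, sqA⟩ := exists_act c v π u sq
  -- `u` is a representable fppf cover
  have hu1 : RepWith @Flat u := (RepWith @Flat).of_isPullback sq.flip
    ((repWith_yon_map_iff @Flat _).2 inferInstance)
  have hu2 : RepWith @LocallyOfFinitePresentation u :=
    (RepWith @LocallyOfFinitePresentation).of_isPullback sq.flip
      ((repWith_yon_map_iff @LocallyOfFinitePresentation _).2 inferInstance)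
  have hu3 : RepWith @Surjective u := (RepWith @Surjective).of_isPullback sq.flip
    ((repWith_yon_map_iff @Surjective _).2 inferInstance)
  have huo : IsOpenMap (Points.ofPt u) := by
    have : Points.ofPt u = Points.map u ∘ Points.schemeHomeo W' := by
      funext w
      exact Points.ofPt_eq_map_ofScheme u w
    rw [this]
    exact (isOpenMap_points_map_of_repWith (P := @Flat ⊓ @LocallyOfFinitePresentation)
      (fun f hf => flat_lfp_isOpenMap f hf) (repWith_inf hu1 hu2)).comp
      (Points.schemeHomeo W').isOpenMap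
  have hq₂aff : IsAffineHom (pullback.snd c (v ≫ c)).left := by
    rw [left_pullback_snd_iff @IsAffineHom]
    exact MorphismProperty.pullback_snd (P := @IsAffineHom) _ _ inferInstance
  -- the charts, indexed by affine opens of `W'`
  have key : ∀ V : W'.left.affineOpens, ∃ (Z : Over S) (f : (yon S).obj Z ⟶ F),
      RepWith @IsOpenImmersion f ∧ ∀ w ∈ V.1, ∃ z : ↥Z.left, Points.ofPt f z = Points.ofPt u w := by
    intro V
    have hWV : IsOpen (Points.ofPt u '' (V.1 : Set W'.left)) := huo _ V.1.2
    set Vs : W'.left.Opens := preimageOpens hWV u with hVs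
    have hVs_eq : (Vs : Set W'.left) =
        act.left '' ((pullback.snd c (v ≫ c)).left ⁻¹' (V.1 : Set W'.left)) :=
      preimage_image_ofPt c v u sqA _
    have hVsc : IsCompact (Vs : Set W'.left) := by
      rw [hVs_eq]
      exact ((pullback.snd c (v ≫ c)).left.isCompact_preimage V.2.isCompact).image
        act.left.continuous
    obtain ⟨fstV, hfstV⟩ := exists_fst_openSub hWV u
    have sqV := isPullback_openSub hWV u fstV hfstV
    have sqV' := sqV.paste_vert sq
    rw [← Functor.map_comp] at sqV'
    -- `Vs` is quasi-affine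
    have : CompactSpace (overOpen W' Vs).left := isCompact_iff_compactSpace.1 hVsc
    have hsep : IsSeparated (overOpenι W' Vs ≫ v).left := by
      rw [Over.comp_left]
      change IsSeparated (Vs.ι ≫ v.left)
      infer_instance
    have hlqf : LocallyQuasiFinite (overOpenι W' Vs ≫ v).left := by
      rw [Over.comp_left]
      change LocallyQuasiFinite (Vs.ι ≫ v.left)
      infer_instance
    have hlft : LocallyOfFiniteType (overOpenι W' Vs ≫ v).left := by
      rw [Over.comp_left]
      change LocallyOfFiniteType (Vs.ι ≫ v.left)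
      infer_instance
    have : (overOpen W' Vs).left.IsQuasiAffine :=
      isQuasiAffine_of_isSeparated_of_locallyQuasiFinite (overOpenι W' Vs ≫ v).left
    obtain ⟨Z, z, e, he⟩ := exists_descent_of_isQuasiAffine c (overOpenι W' Vs ≫ v)
      (openSubι F _ ≫ π) fstV sqV'
    refine ⟨Z, e.hom ≫ openSubι F _, ?_, ?_⟩
    · exact MorphismProperty.RespectsIso.precomp _ e.hom (openSubι F _) (repWith_openSubι hWV)
    · intro w hw
      have hmem : Points.ofPt u w ∈ Set.range (Points.map (openSubι F
          (Points.ofPt u '' (V.1 : Set W'.left)))) := by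
        rw [range_points_map_openSubι]
        exact ⟨w, hw, rfl⟩
      obtain ⟨y, hy⟩ := hmem
      have hsurj : Function.Surjective (Points.map e.hom) := by
        intro y
        refine ⟨Points.map e.inv y, ?_⟩
        rw [← Points.map_comp, e.inv_hom_id, Points.map_id]
      obtain ⟨y', rfl⟩ := hsurj y
      obtain ⟨z', rfl⟩ := ofScheme_surjective Z y'
      refine ⟨z', ?_⟩
      rw [Points.ofPt_eq_map_ofScheme, Points.map_comp, hy]
  choose Z f hf hpt using key
  have hsurj : ∀ x : Points F, ∃ (V : W'.left.affineOpens) (z : ↥(Z V).left),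
      Points.ofPt (f V) z = x := by
    intro x
    obtain ⟨w, rfl⟩ := ofPt_surjective_of_repWith hu3 x
    obtain ⟨_, ⟨V, hV, rfl⟩, hwV, -⟩ := W'.left.isBasis_affineOpens.exists_subset_of_mem_open
      (Set.mem_univ w) isOpen_univ
    obtain ⟨z, hz⟩ := hpt ⟨V, hV⟩ w hwV
    exact ⟨⟨V, hV⟩, z, hz⟩
  obtain ⟨X, e, -, -, -, -⟩ := LocalRep.exists_iso hf hsurj
  obtain ⟨w, hw⟩ := (yon S).map_surjective (e.hom ≫ π)
  exact ⟨X, w, e, hw.symm⟩

/-- An fppf cover of an affine scheme can be refined by an affine fppf cover. -/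
theorem exists_affine_refinement [IsAffine T.left] [Flat c.left] [Surjective c.left]
    [LocallyOfFinitePresentation c.left] :
    ∃ (T'' : Over S) (j : T'' ⟶ T'), IsAffine T''.left ∧ Flat (j ≫ c).left ∧
      LocallyOfFinitePresentation (j ≫ c).left ∧ Surjective (j ≫ c).left := by
  have hopen : IsOpenMap c.left := c.left.isOpenMap
  have hcov : (Set.univ : Set T.left) ⊆
      ⋃ U : T'.left.affineOpens, c.left '' (U.1 : Set T'.left) := by
    intro t _
    obtain ⟨t', rfl⟩ := c.left.surjective t
    obtain ⟨_, ⟨U, hU, rfl⟩, ht'U, -⟩ := T'.left.isBasis_affineOpens.exists_subset_of_mem_open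
      (Set.mem_univ t') isOpen_univ
    exact Set.mem_iUnion.2 ⟨⟨U, hU⟩, t', ht'U, rfl⟩
  obtain ⟨s, hs⟩ := isCompact_univ.elim_finite_subcover
    (fun U : T'.left.affineOpens => c.left '' (U.1 : Set T'.left))
    (fun U => hopen _ U.1.2) hcov
  let I : Type u := {U : T'.left.affineOpens // U ∈ s}
  let g : I → Scheme.{u} := fun U => (U.1.1 : Scheme.{u})
  have hgaff : ∀ i, IsAffine (g i) := fun i => i.1.2
  let j₀ : (∐ g) ⟶ T'.left := Sigma.desc (fun U : I => U.1.1.ι)
  have hj₀flat : Flat j₀ := IsZariskiLocalAtSource.sigmaDesc (fun i => inferInstance)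
  have hj₀lfp : LocallyOfFinitePresentation j₀ :=
    IsZariskiLocalAtSource.sigmaDesc (fun i => inferInstance)
  let T'' : Over S := Over.mk (j₀ ≫ T'.hom)
  let j : T'' ⟶ T' := Over.homMk j₀ rfl
  have hT''aff : IsAffine T''.left := inferInstanceAs (IsAffine (∐ g))
  refine ⟨T'', j, hT''aff, ?_, ?_, ?_⟩
  · rw [Over.comp_left]
    exact inferInstanceAs (Flat (j₀ ≫ c.left))
  · rw [Over.comp_left]
    exact inferInstanceAs (LocallyOfFinitePresentation (j₀ ≫ c.left))
  · rw [Over.comp_left]
    refine ⟨fun t => ?_⟩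
    have := hs (Set.mem_univ t)
    simp only [Set.mem_iUnion] at this
    obtain ⟨U, hUs, t', ht'U, rfl⟩ := this
    refine ⟨Sigma.ι g ⟨U, hUs⟩ ⟨t', ht'U⟩, ?_⟩
    change (j₀ ≫ c.left) _ = _
    rw [Scheme.Hom.comp_apply, ← Scheme.Hom.comp_apply (Sigma.ι g ⟨U, hUs⟩) j₀, Sigma.ι_desc]
    rfl

/-- **Effective descent for separated locally quasi-finite morphisms** over an affine base. -/
theorem exists_descent_of_sepLQF [IsAffine T.left]
    [Flat c.left] [Surjective c.left] [LocallyOfFinitePresentation c.left]
    [IsSeparated v.left] [LocallyQuasiFinite v.left] [LocallyOfFiniteType v.left]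
    (sq : IsPullback u ((yon S).map v) π ((yon S).map c)) :
    ∃ (W : Over S) (w : W ⟶ T) (e : (yon S).obj W ≅ F), e.hom ≫ π = (yon S).map w := by
  obtain ⟨T'', j, hT'', h1, h2, h3⟩ := exists_affine_refinement c
  have hv1 : IsSeparated (pullback.snd v j).left := by
    rw [left_pullback_snd_iff @IsSeparated]
    exact MorphismProperty.pullback_snd (P := @IsSeparated) _ _ inferInstance
  have hv2 : LocallyQuasiFinite (pullback.snd v j).left := by
    rw [left_pullback_snd_iff @LocallyQuasiFinite]
    exact MorphismProperty.pullback_snd (P := @LocallyQuasiFinite) _ _ inferInstance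
  have hv3 : LocallyOfFiniteType (pullback.snd v j).left := by
    rw [left_pullback_snd_iff @LocallyOfFiniteType]
    exact MorphismProperty.pullback_snd (P := @LocallyOfFiniteType) _ _ inferInstance
  have sq'' : IsPullback ((yon S).map (pullback.fst v j) ≫ u) ((yon S).map (pullback.snd v j)) π
      ((yon S).map (j ≫ c)) := by
    rw [Functor.map_comp]
    exact ((IsPullback.of_hasPullback v j).map (yon S)).flip.paste_vert sq.flip |>.flip
  exact exists_descent_of_sepLQF_of_isAffine (j ≫ c) (pullback.snd v j) π _ sq''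

end

variable {F G H : Sp S}

/-- **Separated locally quasi-finite morphisms of sheaves descend along representable fppf
covers**: representability. -/
theorem representable_of_baseChange_sepLQF {f : F ⟶ G} {b : H ⟶ G} (hb1 : RepWith @Flat b)
    (hb2 : RepWith @LocallyOfFinitePresentation b) (hb3 : RepWith @Surjective b) {P : Sp S}
    {fst : P ⟶ F} {snd : P ⟶ H} (sq : IsPullback fst snd f b) (h1 : RepWith @IsSeparated snd)
    (h2 : RepWith @LocallyQuasiFinite snd) (h3 : RepWith @LocallyOfFiniteType snd) :
    Representable f := by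
  apply representable_of_forall_affine
  intro Z hZ g
  have : IsAffine Z.left := hZ
  -- `T' = H ×_G Z`
  have sqb := hb1.rep.isPullback g
  set τ := hb1.rep.fst g with hτ
  set c := hb1.rep.snd g with hc
  have hc1 : Flat c.left := hb1.property_snd g
  have hc2 : LocallyOfFinitePresentation c.left := hb2.property _ _ _ sqb
  have hc3 : Surjective c.left := hb3.property _ _ _ sqb
  -- `W' = P ×_H T'`
  have sqv := h1.rep.isPullback τ
  set v := h1.rep.snd τ with hv
  have hv1 : IsSeparated v.left := h1.property_snd τ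
  have hv2 : LocallyQuasiFinite v.left := h2.property _ _ _ sqv
  have hv3 : LocallyOfFiniteType v.left := h3.property _ _ _ sqv
  have big : IsPullback (h1.rep.fst τ ≫ fst) ((yon S).map v) f ((yon S).map c ≫ g) := by
    rw [← sqb.w]
    exact sqv.paste_horiz sq
  have sqP := IsPullback.of_hasPullback f g
  have hw : (h1.rep.fst τ ≫ fst) ≫ f = ((yon S).map v ≫ (yon S).map c) ≫ g := by
    rw [Category.assoc _ _ g]
    exact big.w
  have sqD : IsPullback (sqP.lift _ _ hw) ((yon S).map v) (pullback.snd f g) ((yon S).map c) := by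
    apply IsPullback.of_right (h₁₂ := pullback.fst f g) (h₂₂ := g) _ (sqP.lift_snd _ _ _) sqP
    rw [sqP.lift_fst]
    exact big
  obtain ⟨W, w, e, he⟩ := exists_descent_of_sepLQF c v (pullback.snd f g) _ sqD
  refine ⟨W, w, e.hom ≫ pullback.fst f g, ?_⟩
  refine IsPullback.of_iso sqP e.symm (Iso.refl _) (Iso.refl _) (Iso.refl _) (by simp) ?_
    (by simp) (by simp)
  rw [Iso.refl_hom, Category.comp_id, Iso.symm_hom, ← he, Iso.inv_hom_id_assoc]

end Groth.Agent.H5.Descent
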