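import Groth.Agent.Lib.Helper5.Descent.SepLQFLocal
import Groth.Agent.Lib.Helper5.AlgSp.LocalBaseFam
import Mathlib

/-!
# Descent of separated locally quasi-finite morphisms along jointly locally surjective families
-/

set_option autoImplicit false

universe w u

open CategoryTheory CategoryTheory.Limits AlgebraicGeometry Opposite

namespace Groth.Agent.H5.Descent

open _root_.AlgSp Groth.Agent.H5.AlgSp

variable {S : Scheme.{u}} {F G : Sp S}

/-- Family version of `representable_of_locallySurjective_baseChange_sepLQF`. -/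
theorem representable_of_jointly_locallySurjective_baseChange_sepLQF {f : F ⟶ G} {κ : Type w}
    {H : κ → Sp S} (b : ∀ k, H k ⟶ G)
    (hcov : ∀ (T : Over S) (ξ : (yon S).obj T ⟶ G), jointLiftSieve b ξ ∈ J S T)
    {P : κ → Sp S} {fst : ∀ k, P k ⟶ F} {snd : ∀ k, P k ⟶ H k}
    (sq : ∀ k, IsPullback (fst k) (snd k) f (b k)) (h1 : ∀ k, RepWith @IsSeparated (snd k))
    (h2 : ∀ k, RepWith @LocallyQuasiFinite (snd k))
    (h3 : ∀ k, RepWith @LocallyOfFiniteType (snd k)) :
    Representable f := by
  apply representable_of_forall_exists_open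
  intro T g t
  obtain ⟨V, htV, hV, Y, c, hc1, hc2, hc3, k, τ, hτ⟩ :=
    exists_local_fppf_of_mem_J (hcov T g) t
  refine ⟨V, htV, ?_⟩
  have : IsAffine (overOpen T V).left := hV
  set g' := (yon S).map (overOpenι T V) ≫ g with hg'
  have hτ' : τ ≫ b k = (yon S).map c ≫ g' := by
    rw [hτ, Functor.map_comp, Category.assoc]
  have sqv := (h1 k).rep.isPullback τ
  set v := (h1 k).rep.snd τ with hv
  have hv1 : IsSeparated v.left := (h1 k).property_snd τ
  have hv2 : LocallyQuasiFinite v.left := (h2 k).property _ _ _ sqv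
  have hv3 : LocallyOfFiniteType v.left := (h3 k).property _ _ _ sqv
  have big : IsPullback ((h1 k).rep.fst τ ≫ fst k) ((yon S).map v) f ((yon S).map c ≫ g') := by
    rw [← hτ']
    exact sqv.paste_horiz (sq k)
  have sqP := IsPullback.of_hasPullback f g'
  have hw : ((h1 k).rep.fst τ ≫ fst k) ≫ f = ((yon S).map v ≫ (yon S).map c) ≫ g' := by
    rw [Category.assoc _ _ g']
    exact big.w
  have sqD : IsPullback (sqP.lift _ _ hw) ((yon S).map v) (pullback.snd f g') ((yon S).map c) := by
    apply IsPullback.of_right (h₁₂ := pullback.fst f g') (h₂₂ := g') _ (sqP.lift_snd _ _ _) sqP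
    rw [sqP.lift_fst]
    exact big
  obtain ⟨W, w, e, he⟩ := exists_descent_of_sepLQF c v (pullback.snd f g') _ sqD
  refine ⟨W, w, e.hom ≫ pullback.fst f g', ?_⟩
  refine IsPullback.of_iso sqP e.symm (Iso.refl _) (Iso.refl _) (Iso.refl _) (by simp) ?_
    (by simp) (by simp)
  rw [Iso.refl_hom, Category.comp_id, Iso.symm_hom, ← he, Iso.inv_hom_id_assoc]

/-- Family version of descent of closed immersions. -/
theorem repWith_isClosedImmersion_of_jointly_locallySurjective_baseChange {f : F ⟶ G}
    {κ : Type w} {H : κ → Sp S} (b : ∀ k, H k ⟶ G)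
    (hcov : ∀ (T : Over S) (ξ : (yon S).obj T ⟶ G), jointLiftSieve b ξ ∈ J S T)
    {P : κ → Sp S} {fst : ∀ k, P k ⟶ F} {snd : ∀ k, P k ⟶ H k}
    (sq : ∀ k, IsPullback (fst k) (snd k) f (b k))
    (h : ∀ k, RepWith @IsClosedImmersion (snd k)) : RepWith @IsClosedImmersion f := by
  have hrep : Representable f :=
    representable_of_jointly_locallySurjective_baseChange_sepLQF b hcov sq
      (fun k => repWith_mono (fun _ _ g hg => by
        have : IsClosedImmersion g := hg
        exact (inferInstance : IsSeparated g)) (h k))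
      (fun k => repWith_mono (fun _ _ g hg => by
        have : IsClosedImmersion g := hg
        exact (inferInstance : LocallyQuasiFinite g)) (h k))
      (fun k => repWith_mono (fun _ _ g hg => by
        have : IsClosedImmersion g := hg
        exact (inferInstance : LocallyOfFiniteType g)) (h k))
  exact repWith_of_jointly_locallySurjective_baseChange f hrep b hcov fst snd sq
    @IsClosedImmersion h

end Groth.Agent.H5.Descent
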