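import Groth.Agent.Lib.Helper5.Descent.SepLQFDescent
import Groth.Prelude.Def_AlgSp3
import Mathlib

/-!
# Quasi-affine morphisms of sheaves descend along representable fppf covers
-/

set_option autoImplicit false

universe u

open CategoryTheory CategoryTheory.Limits AlgebraicGeometry Opposite

namespace Groth.Agent.H5.Descent

open _root_.AlgSp Groth.Agent.H5.AlgSp

variable {S : Scheme.{u}} {F G H : Sp S}

/-- **Quasi-affine morphisms of sheaves descend along representable fppf covers.** -/
theorem isQuasiAffineMor_of_baseChange {f : F ⟶ G} {b : H ⟶ G} (hb1 : RepWith @Flat b)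
    (hb2 : RepWith @LocallyOfFinitePresentation b) (hb3 : RepWith @Surjective b) {P : Sp S}
    {fst : P ⟶ F} {snd : P ⟶ H} (sq : IsPullback fst snd f b) (h : IsQuasiAffineMor snd) :
    IsQuasiAffineMor f := by
  intro Z hZ g
  have : IsAffine Z.left := hZ
  -- `T' = H ×_G Z`
  have sqb := hb1.rep.isPullback g
  set τ := hb1.rep.fst g with hτ
  set c := hb1.rep.snd g with hc
  have hc1 : Flat c.left := hb1.property_snd g
  have hc2 : LocallyOfFinitePresentation c.left := hb2.property _ _ _ sqb
  have hc3 : Surjective c.left := hb3.property _ _ _ sqb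
  obtain ⟨T'', j, hT'', h1, h2, h3⟩ := exists_affine_refinement c
  -- `W'' = P ×_H T''`
  obtain ⟨W'', v, u₀, sqv, hW''⟩ := h hT'' ((yon S).map j ≫ τ)
  have hcomp : ((yon S).map j ≫ τ) ≫ b = (yon S).map (j ≫ c) ≫ g := by
    rw [Category.assoc, sqb.w, Functor.map_comp, Category.assoc]
  have big : IsPullback (u₀ ≫ fst) ((yon S).map v) f ((yon S).map (j ≫ c) ≫ g) := by
    rw [← hcomp]
    exact sqv.paste_horiz sq
  have sqP := IsPullback.of_hasPullback f g
  have hw : (u₀ ≫ fst) ≫ f = ((yon S).map v ≫ (yon S).map (j ≫ c)) ≫ g := by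
    rw [Category.assoc _ _ g]
    exact big.w
  have sqD : IsPullback (sqP.lift _ _ hw) ((yon S).map v) (pullback.snd f g)
      ((yon S).map (j ≫ c)) := by
    apply IsPullback.of_right (h₁₂ := pullback.fst f g) (h₂₂ := g) _ (sqP.lift_snd _ _ _) sqP
    rw [sqP.lift_fst]
    exact big
  obtain ⟨W, w, e, he, hWqa⟩ := exists_descent_of_isQuasiAffine' (j ≫ c) v (pullback.snd f g) _ sqD
  refine ⟨W, w, e.hom ≫ pullback.fst f g, ?_, hWqa⟩
  refine IsPullback.of_iso sqP e.symm (Iso.refl _) (Iso.refl _) (Iso.refl _) (by simp) ?_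
    (by simp) (by simp)
  rw [Iso.refl_hom, Category.comp_id, Iso.symm_hom, ← he, Iso.inv_hom_id_assoc]

theorem representable_of_isQuasiAffineMor {f : F ⟶ G} (h : IsQuasiAffineMor f) :
    Representable f := by
  apply representable_of_forall_affine
  intro Z hZ g
  obtain ⟨W, i, fst, sq, -⟩ := h hZ g
  exact ⟨W, i, fst, sq⟩

end Groth.Agent.H5.Descent
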