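import Groth.Agent.Lib.Helper5.Descent.AffineMorDescent
import Mathlib

set_option autoImplicit false

universe u

open CategoryTheory CategoryTheory.Limits AlgebraicGeometry Opposite MorphismProperty

namespace Groth.Agent.H5.Descent

open _root_.AlgSp Groth.Agent.H5.AlgSp

/-- Affine morphisms of schemes descend along fppf covers. -/
instance descendsAlong_isAffineHom_fppf :
    DescendsAlong @IsAffineHom.{u} (@Surjective ⊓ @Flat ⊓ @LocallyOfFinitePresentation) := by
  apply IsZariskiLocalAtTarget.descendsAlong
  intro R X Y f g hf h
  obtain ⟨⟨h1, h2⟩, h3⟩ := hf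
  have : Surjective f := h1
  have : Flat f := h2
  have : LocallyOfFinitePresentation f := h3
  have : IsAffineHom (pullback.fst f g) := h
  let S : Scheme.{u} := Spec R
  let T : Over S := Over.mk (𝟙 S)
  let T' : Over S := Over.mk f
  let Yo : Over S := Over.mk g
  let W' : Over S := Over.mk (pullback.fst f g ≫ f)
  let c : T' ⟶ T := Over.homMk f
  let v : W' ⟶ T' := Over.homMk (pullback.fst f g)
  let p : Yo ⟶ T := Over.homMk g
  let q : W' ⟶ Yo := Over.homMk (pullback.snd f g) pullback.condition.symm
  have hw : q ≫ p = v ≫ c := by
    ext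
    exact pullback.condition.symm
  have sqO : IsPullback q v p c :=
    IsPullback.of_map (Over.forget S) hw (IsPullback.of_hasPullback f g).flip
  have : IsAffine T.left := inferInstanceAs (IsAffine (Spec R))
  have : Flat c.left := inferInstanceAs (Flat f)
  have : Surjective c.left := inferInstanceAs (Surjective f)
  have : LocallyOfFinitePresentation c.left := inferInstanceAs (LocallyOfFinitePresentation f)
  have : IsAffineHom v.left := inferInstanceAs (IsAffineHom (pullback.fst f g))
  obtain ⟨W, w, e, hW, he⟩ := exists_descent_of_isAffineHom c v ((yon S).map p) ((yon S).map q)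
    (sqO.map (yon S))
  have e' : W ≅ Yo := (yon S).preimageIso e
  have : IsIso e'.hom.left := inferInstanceAs (IsIso ((Over.forget S).map e'.hom))
  have : IsAffine Y := IsAffine.of_isIso (inv e'.hom.left)
  infer_instance

instance descendsAlong_isIntegralHom_fppf :
    DescendsAlong @IsIntegralHom.{u} (@Surjective ⊓ @Flat ⊓ @LocallyOfFinitePresentation) := by
  rw [IsIntegralHom.eq_universallyClosed_inf_isAffineHom]
  infer_instance

instance descendsAlong_isFinite_fppf :
    DescendsAlong @IsFinite.{u} (@Surjective ⊓ @Flat ⊓ @LocallyOfFinitePresentation) := by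
  rw [IsFinite.eq_isProper_inf_isAffineHom]
  infer_instance

example : MorphismProperty.IsLocalAtTarget (@IsAffineHom) Scheme.fppfPrecoverage.{u} :=
  inferInstance
example : MorphismProperty.IsLocalAtTarget (@IsIntegralHom) Scheme.fppfPrecoverage.{u} :=
  inferInstance
example : MorphismProperty.IsLocalAtTarget (@IsFinite) Scheme.fppfPrecoverage.{u} :=
  inferInstance

end Groth.Agent.H5.Descent
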