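import Mathlib

/-!
# Effectivity of descent for algebras, in coalgebra form

Let `A → A'` be a flat ring map, `B'` an `A'`-algebra and `θ : B' → A' ⊗[A] B'` an `A`-algebra map
which is `A'`-linear for the left structure, counital and coassociative.  Then with
`M₀ = {b | θ b = 1 ⊗ b}` the multiplication map `A' ⊗[A] M₀ → B'` is bijective.
-/

set_option autoImplicit false

universe u

open TensorProduct Algebra.TensorProduct

namespace Groth.Agent.H5.Descent

variable {A A' B' : Type u} [CommRing A] [CommRing A'] [CommRing B'] [Algebra A A'] [Algebra A B']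
  [Algebra A' B'] [IsScalarTower A A' B']

variable (A A' B') in
/-- The counit `A' ⊗[A] B' → B'`, `a ⊗ b ↦ a • b`. -/
noncomputable def counit : A' ⊗[A] B' →ₐ[A] B' :=
  productMap (IsScalarTower.toAlgHom A A' B') (AlgHom.id A B')

@[simp] lemma counit_tmul (a : A') (b : B') : counit A A' B' (a ⊗ₜ b) = algebraMap A' B' a * b := by
  simp [counit]

variable (A A' B') in
/-- The contraction `A' ⊗ (A' ⊗ B') → A' ⊗ B'`, `a ⊗ z ↦ (a ⊗ 1) * z`. -/
noncomputable def contract : A' ⊗[A] (A' ⊗[A] B') →ₐ[A] A' ⊗[A] B' :=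
  productMap (includeLeft : A' →ₐ[A] A' ⊗[A] B') (AlgHom.id A (A' ⊗[A] B'))

@[simp] lemma contract_tmul (a : A') (z : A' ⊗[A] B') :
    contract A A' B' (a ⊗ₜ z) = (a ⊗ₜ 1) * z := by
  simp [contract]

/-- The descended algebra. -/
noncomputable abbrev descAlg (θ : B' →ₐ[A] A' ⊗[A] B') : Subalgebra A B' :=
  AlgHom.equalizer θ (includeRight : B' →ₐ[A] A' ⊗[A] B')

/-- The multiplication map `A' ⊗[A] M₀ → B'`. -/
noncomputable def descMul (θ : B' →ₐ[A] A' ⊗[A] B') : A' ⊗[A] descAlg θ →ₐ[A] B' :=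
  productMap (IsScalarTower.toAlgHom A A' B') (descAlg θ).val

@[simp] lemma descMul_tmul (θ : B' →ₐ[A] A' ⊗[A] B') (a : A') (m : descAlg θ) :
    descMul θ (a ⊗ₜ m) = algebraMap A' B' a * (m : B') := by
  simp [descMul]

theorem descMul_bijective [Module.Flat A A'] (θ : B' →ₐ[A] A' ⊗[A] B')
    (h1 : ∀ a : A', θ (algebraMap A' B' a) = a ⊗ₜ 1)
    (h2 : ∀ b : B', counit A A' B' (θ b) = b)
    (h3 : ∀ b : B', map (AlgHom.id A A') θ (θ b) =
      map (AlgHom.id A A') (includeRight : B' →ₐ[A] A' ⊗[A] B') (θ b)) :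
    Function.Bijective (descMul θ) := by
  let e := AlgHom.tensorEqualizerEquiv A A' θ (includeRight : B' →ₐ[A] A' ⊗[A] B')
  -- (i)
  have hi : ∀ x : A' ⊗[A] descAlg θ, counit A A' B' (e x : A' ⊗[A] B') = descMul θ x := by
    intro x
    rw [AlgHom.tensorEqualizerEquiv_apply, AlgHom.coe_tensorEqualizer]
    induction x with
    | zero => simp
    | tmul a m => simp
    | add x y hx hy => simp only [map_add, hx, hy]
  -- (iii)
  have hc1 : ∀ y : A' ⊗[A] B', contract A A' B' (map (AlgHom.id A A') θ y) =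
      θ (counit A A' B' y) := by
    intro y
    induction y with
    | zero => simp
    | tmul a b => simp [h1]
    | add x y hx hy => simp only [map_add, hx, hy]
  have hc2 : ∀ y : A' ⊗[A] B', contract A A' B' (map (AlgHom.id A A')
      (includeRight : B' →ₐ[A] A' ⊗[A] B') y) = y := by
    intro y
    induction y with
    | zero => simp
    | tmul a b => simp
    | add x y hx hy => simp only [map_add, hx, hy]
  have hiii : ∀ y : AlgHom.equalizer (map (AlgHom.id A A') θ)
      (map (AlgHom.id A A') (includeRight : B' →ₐ[A] A' ⊗[A] B')),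
      θ (counit A A' B' (y : A' ⊗[A] B')) = y := by
    intro y
    rw [← hc1, y.2, hc2]
  constructor
  · intro x x' hxx'
    apply e.injective
    apply Subtype.ext
    rw [← hiii (e x), ← hiii (e x'), hi, hi, hxx']
  · intro b
    refine ⟨e.symm ⟨θ b, h3 b⟩, ?_⟩
    rw [← hi, AlgEquiv.apply_symm_apply]
    exact h2 b

end Groth.Agent.H5.Descent
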