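import Groth.Prelude.Def_AlgSp
import Mathlib

/-!
# Spectra of `A`-algebras as schemes over `S`
-/

set_option autoImplicit false

universe u

open CategoryTheory CategoryTheory.Limits AlgebraicGeometry Opposite TensorProduct
  Algebra.TensorProduct

namespace Groth.Agent.H5.Descent

variable {S : Scheme.{u}} {A : Type u} [CommRing A] (str : Spec (.of A) ⟶ S)

/-- `Spec R` over `S`, for an `A`-algebra `R`. -/
noncomputable def specOver (R : Type u) [CommRing R] [Algebra A R] : Over S :=
  Over.mk (Spec.map (CommRingCat.ofHom (algebraMap A R)) ≫ str)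

variable {R R' R'' : Type u} [CommRing R] [CommRing R'] [CommRing R''] [Algebra A R]
  [Algebra A R'] [Algebra A R'']

/-- The morphism over `S` induced by an `A`-algebra map. -/
noncomputable def specOverMap (φ : R →ₐ[A] R') : specOver str R' ⟶ specOver str R :=
  Over.homMk (Spec.map (CommRingCat.ofHom φ.toRingHom)) (by
    change Spec.map _ ≫ Spec.map _ ≫ str = Spec.map _ ≫ str
    rw [← Spec.map_comp_assoc, ← CommRingCat.ofHom_comp]
    congr 3
    exact φ.comp_algebraMap)

@[simp] lemma specOverMap_left (φ : R →ₐ[A] R') :
    (specOverMap str φ).left = Spec.map (CommRingCat.ofHom φ.toRingHom) := rfl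

lemma specOverMap_comp (φ : R →ₐ[A] R') (ψ : R' →ₐ[A] R'') :
    specOverMap str (ψ.comp φ) = specOverMap str ψ ≫ specOverMap str φ := by
  apply Over.OverMorphism.ext
  change Spec.map _ = Spec.map _ ≫ Spec.map _
  rw [← Spec.map_comp, ← CommRingCat.ofHom_comp]
  rfl

@[simp] lemma specOverMap_id : specOverMap str (AlgHom.id A R) = 𝟙 _ := by
  apply Over.OverMorphism.ext
  change Spec.map _ = 𝟙 _
  exact Spec.map_id _

lemma specOverMap_injective {φ ψ : R →ₐ[A] R'} (h : specOverMap str φ = specOverMap str ψ) :
    φ = ψ := by
  have h1 : Spec.map (CommRingCat.ofHom φ.toRingHom) = Spec.map (CommRingCat.ofHom ψ.toRingHom) :=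
    congrArg (fun m => m.left) h
  have h2 := Spec.map_injective h1
  have h3 : φ.toRingHom = ψ.toRingHom := congrArg CommRingCat.Hom.hom h2
  exact AlgHom.coe_ringHom_injective h3

/-- The isomorphism over `S` induced by an `A`-algebra isomorphism. -/
noncomputable def specOverIso (e : R ≃ₐ[A] R') : specOver str R' ≅ specOver str R where
  hom := specOverMap str e.toAlgHom
  inv := specOverMap str e.symm.toAlgHom
  hom_inv_id := by
    rw [← specOverMap_comp]
    have : e.toAlgHom.comp e.symm.toAlgHom = AlgHom.id A R' := by ext x; simp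
    rw [this, specOverMap_id]
  inv_hom_id := by
    rw [← specOverMap_comp]
    have : e.symm.toAlgHom.comp e.toAlgHom = AlgHom.id A R := by ext x; simp
    rw [this, specOverMap_id]

/-- Every morphism over `S` between the spectra comes from a ring map. -/
lemma exists_ringHom_of_hom (a : specOver str R' ⟶ specOver str R) :
    ∃ θ : R →+* R', a.left = Spec.map (CommRingCat.ofHom θ) := by
  let f : Spec (CommRingCat.of R') ⟶ Spec (CommRingCat.of R) := a.left
  have : a.left = Spec.map (Spec.preimage f) := (Spec.map_preimage f).symm
  exact ⟨(Spec.preimage f).hom, this⟩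

/-- The spectrum of a tensor product is the fibre product, over `S`. -/
lemma isPullback_specOver_tensor :
    IsPullback (specOverMap str (includeLeft : R →ₐ[A] R ⊗[A] R'))
      (specOverMap str (includeRight : R' →ₐ[A] R ⊗[A] R'))
      (specOverMap str (Algebra.ofId A R)) (specOverMap str (Algebra.ofId A R')) := by
  have hw : specOverMap str (includeLeft : R →ₐ[A] R ⊗[A] R') ≫ specOverMap str (Algebra.ofId A R) =
      specOverMap str (includeRight : R' →ₐ[A] R ⊗[A] R') ≫ specOverMap str (Algebra.ofId A R') := by
    rw [← specOverMap_comp, ← specOverMap_comp]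
    congr 1
    ext
  refine IsPullback.of_map (Over.forget S) hw ?_
  have := isPullback_SpecMap_of_isPushout _ _ _ _ (CommRingCat.isPushout_tensorProduct A R R')
  exact this

end Groth.Agent.H5.Descent
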