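import Groth.Prelude.Def_AlgSp
import Groth.Agent.Lib.Helper5.Descent.CoalgDescent
import Groth.Agent.Lib.Helper5.Descent.SpecOver
import Groth.Agent.Lib.Helper5.AlgSp.Basic
import Groth.Agent.Lib.Helper5.AlgSp.MonoDesc
import Groth.Agent.Lib.Helper5.AlgSp.SepMor
import Mathlib

/-!
# Effective descent of affine schemes along a flat cover (ring form)

`T = Spec A`, `T' = Spec A'` flat over `T` and covering for the fppf topology, `F` a sheaf over
`h_T` whose base change to `T'` is `h_{Spec B'}`.  Then `F ≅ h_{Spec M}` for an `A`-algebra `M`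
with `A' ⊗[A] M ≅ B'`.
-/

set_option autoImplicit false

universe u

open CategoryTheory CategoryTheory.Limits AlgebraicGeometry Opposite TensorProduct
  Algebra.TensorProduct

namespace Groth.Agent.H5.Descent

open _root_.AlgSp Groth.Agent.H5.AlgSp

variable {S : Scheme.{u}} {A A' B' : Type u} [CommRing A] [CommRing A'] [CommRing B']
  [Algebra A A'] [Algebra A B'] [Algebra A' B'] [IsScalarTower A A' B']
  (str : Spec (.of A) ⟶ S) {F : Sp S}
  {π : F ⟶ (yon S).obj (specOver str A)} {u : (yon S).obj (specOver str B') ⟶ F}

section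

variable (sq : IsPullback u ((yon S).map (specOverMap str (IsScalarTower.toAlgHom A A' B'))) π
    ((yon S).map (specOverMap str (Algebra.ofId A A'))))

include sq

/-- The "action" `T' ×_T W' → W'` as a ring map. -/
lemma exists_theta : ∃ θ : B' →ₐ[A] A' ⊗[A] B', (∀ a, θ (algebraMap A' B' a) = a ⊗ₜ 1) ∧
    (yon S).map (specOverMap str θ) ≫ u =
      (yon S).map (specOverMap str (includeRight : B' →ₐ[A] A' ⊗[A] B')) ≫ u := by
  have hcompat : ((yon S).map (specOverMap str (includeRight : B' →ₐ[A] A' ⊗[A] B')) ≫ u) ≫ π =
      (yon S).map (specOverMap str (includeLeft : A' →ₐ[A] A' ⊗[A] B')) ≫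
        (yon S).map (specOverMap str (Algebra.ofId A A')) := by
    rw [Category.assoc, sq.w, ← Functor.map_comp, ← Functor.map_comp, ← Functor.map_comp,
      ← specOverMap_comp, ← specOverMap_comp, ← specOverMap_comp]
    congr 2
    ext
  obtain ⟨act, hact⟩ := (yon S).map_surjective (sq.lift _ _ hcompat)
  have hact1 : (yon S).map act ≫ u =
      (yon S).map (specOverMap str (includeRight : B' →ₐ[A] A' ⊗[A] B')) ≫ u := by
    rw [hact, sq.lift_fst]
  have hact2 : act ≫ specOverMap str (IsScalarTower.toAlgHom A A' B') =
      specOverMap str (includeLeft : A' →ₐ[A] A' ⊗[A] B') := by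
    apply (yon S).map_injective
    rw [Functor.map_comp, hact, sq.lift_snd]
  obtain ⟨θ₀, hθ₀⟩ := exists_ringHom_of_hom str act
  have h1 : θ₀.comp (algebraMap A' B') = (includeLeftRingHom : A' →+* A' ⊗[A] B') := by
    have h0 := congrArg (fun m => m.left) hact2
    simp only [Over.comp_left, specOverMap_left, hθ₀] at h0
    have this : Spec.map (CommRingCat.ofHom θ₀) ≫ Spec.map (CommRingCat.ofHom (algebraMap A' B')) =
        Spec.map (CommRingCat.ofHom (includeLeftRingHom : A' →+* A' ⊗[A] B')) := h0
    rw [← Spec.map_comp] at this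
    have h' := Spec.map_injective this
    have h'' := congrArg CommRingCat.Hom.hom h'
    exact h''
  have h1' : ∀ a, θ₀ (algebraMap A' B' a) = a ⊗ₜ 1 := fun a => by
    have := congrArg (fun f => f a) h1
    exact this
  let θ : B' →ₐ[A] A' ⊗[A] B' :=
    { θ₀ with
      commutes' := fun r => by
        change θ₀ (algebraMap A B' r) = algebraMap A (A' ⊗[A] B') r
        rw [IsScalarTower.algebraMap_apply A A' B', h1', Algebra.TensorProduct.algebraMap_apply] }
  have hθ : specOverMap str θ = act := by
    apply Over.OverMorphism.ext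
    rw [hθ₀]
    rfl
  exact ⟨θ, h1', by rw [hθ]; exact hact1⟩

/-- **Effective descent for affine schemes, ring form.** -/
theorem exists_descent [Module.Flat A A']
    [Sheaf.IsLocallySurjective ((yon S).map (specOverMap str (Algebra.ofId A A')))] :
    ∃ (M : Subalgebra A B') (g : F ⟶ (yon S).obj (specOver str M)), IsIso g ∧
      g ≫ (yon S).map (specOverMap str (Algebra.ofId A M)) = π ∧
      u ≫ g = (yon S).map (specOverMap str M.val) ∧
      IsPullback (specOverMap str M.val) (specOverMap str (IsScalarTower.toAlgHom A A' B'))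
        (specOverMap str (Algebra.ofId A M)) (specOverMap str (Algebra.ofId A A')) := by
  obtain ⟨θ, h1, hθu⟩ := exists_theta str sq
  have hext : ∀ {Z : Over S} (k l : Z ⟶ specOver str B'),
      (yon S).map k ≫ u = (yon S).map l ≫ u →
      k ≫ specOverMap str (IsScalarTower.toAlgHom A A' B') =
        l ≫ specOverMap str (IsScalarTower.toAlgHom A A' B') → k = l := by
    intro Z k l h h'
    apply (yon S).map_injective
    apply sq.hom_ext h
    rw [← Functor.map_comp, ← Functor.map_comp, h']
  have hθL : θ.comp (IsScalarTower.toAlgHom A A' B') = (includeLeft : A' →ₐ[A] A' ⊗[A] B') := by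
    ext a
    exact h1 a
  -- counit
  have h2 : ∀ b, counit A A' B' (θ b) = b := by
    have key : (counit A A' B').comp θ = AlgHom.id A B' := by
      apply specOverMap_injective str
      rw [specOverMap_comp, specOverMap_id]
      apply hext
      · rw [Functor.map_comp, Category.assoc, hθu, ← Category.assoc, ← Functor.map_comp,
          ← specOverMap_comp]
        have : (counit A A' B').comp (includeRight : B' →ₐ[A] A' ⊗[A] B') = AlgHom.id A B' := by
          ext b; simp
        rw [this, specOverMap_id]
      · rw [Category.assoc, ← specOverMap_comp, hθL, ← specOverMap_comp, Category.id_comp]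
        congr 1
        ext a
        simp
    intro b
    exact congrArg (fun f => f b) key
  -- coassociativity
  have h3 : ∀ b, map (AlgHom.id A A') θ (θ b) =
      map (AlgHom.id A A') (includeRight : B' →ₐ[A] A' ⊗[A] B') (θ b) := by
    have key : (map (AlgHom.id A A') θ).comp θ =
        (map (AlgHom.id A A') (includeRight : B' →ₐ[A] A' ⊗[A] B')).comp θ := by
      apply specOverMap_injective str
      rw [specOverMap_comp, specOverMap_comp]
      apply hext
      · rw [Functor.map_comp, Functor.map_comp, Category.assoc, Category.assoc, hθu,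
          ← Category.assoc, ← Category.assoc, ← Functor.map_comp, ← Functor.map_comp,
          ← specOverMap_comp, ← specOverMap_comp]
        have e1 : (map (AlgHom.id A A') θ).comp (includeRight : B' →ₐ[A] A' ⊗[A] B') =
            (includeRight : A' ⊗[A] B' →ₐ[A] A' ⊗[A] (A' ⊗[A] B')).comp θ := by
          ext b; simp
        have e2 : (map (AlgHom.id A A') (includeRight : B' →ₐ[A] A' ⊗[A] B')).comp
            (includeRight : B' →ₐ[A] A' ⊗[A] B') =
            (includeRight : A' ⊗[A] B' →ₐ[A] A' ⊗[A] (A' ⊗[A] B')).comp
              (includeRight : B' →ₐ[A] A' ⊗[A] B') := by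
          ext b; simp
        rw [e1, e2, specOverMap_comp, specOverMap_comp, Functor.map_comp, Functor.map_comp,
          Category.assoc, Category.assoc, hθu]
      · rw [Category.assoc, Category.assoc, ← specOverMap_comp, hθL, ← specOverMap_comp,
          ← specOverMap_comp]
        congr 1
        ext a
        simp
    intro b
    exact congrArg (fun f => f b) key
  have hbij := descMul_bijective θ h1 h2 h3
  let M : Subalgebra A B' := descAlg θ
  let e : (A' ⊗[A] M) ≃ₐ[A] B' := AlgEquiv.ofBijective (descMul θ) hbij
  -- the pullback square of schemes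
  have hsymm : ∀ m : M, e.symm (m : B') = 1 ⊗ₜ m := by
    intro m
    rw [AlgEquiv.symm_apply_eq]
    change _ = descMul θ ((1 : A') ⊗ₜ[A] (m : descAlg θ))
    rw [descMul_tmul, map_one, one_mul]
  have hsymm' : ∀ a : A', e.symm (algebraMap A' B' a) = a ⊗ₜ 1 := by
    intro a
    rw [AlgEquiv.symm_apply_eq]
    change _ = descMul θ (a ⊗ₜ[A] (1 : descAlg θ))
    rw [descMul_tmul, OneMemClass.coe_one, mul_one]
  have sqW : IsPullback (specOverMap str M.val)
      (specOverMap str (IsScalarTower.toAlgHom A A' B'))
      (specOverMap str (Algebra.ofId A M)) (specOverMap str (Algebra.ofId A A')) := by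
    refine IsPullback.of_iso (isPullback_specOver_tensor str (R := A') (R' := M)).flip
      (specOverIso str e).symm (Iso.refl _) (Iso.refl _) (Iso.refl _) ?_ ?_ (by simp) (by simp)
    · change _ ≫ 𝟙 _ = specOverMap str e.symm.toAlgHom ≫ _
      rw [Category.comp_id, ← specOverMap_comp]
      congr 1
      ext m
      exact (hsymm m).symm
    · change _ ≫ 𝟙 _ = specOverMap str e.symm.toAlgHom ≫ _
      rw [Category.comp_id, ← specOverMap_comp]
      congr 1
      ext a
      exact (hsymm' a).symm
  -- the map `g`
  have : Sheaf.IsLocallySurjective u := isLocallySurjective_of_isPullback sq.flip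
  have hepi : Epi u := inferInstance
  have : EffectiveEpi u :=
    (isRegularEpi_iff_effectiveEpi u).1 (IsRegularEpiCategory.regularEpiOfEpi u)
  have hMeq : (specOverMap str θ) ≫ specOverMap str M.val =
      specOverMap str (includeRight : B' →ₐ[A] A' ⊗[A] B') ≫ specOverMap str M.val := by
    rw [← specOverMap_comp, ← specOverMap_comp]
    congr 1
    ext m
    exact m.2
  have hcoeq : ∀ {Z : Sp S} (g₁ g₂ : Z ⟶ (yon S).obj (specOver str B')), g₁ ≫ u = g₂ ≫ u →
      g₁ ≫ (yon S).map (specOverMap str M.val) = g₂ ≫ (yon S).map (specOverMap str M.val) := by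
    intro Z g₁ g₂ h
    apply hom_ext_yon
    intro T x
    obtain ⟨x₁, hx₁⟩ := (yon S).map_surjective (x ≫ g₁)
    obtain ⟨x₂, hx₂⟩ := (yon S).map_surjective (x ≫ g₂)
    have hu : (yon S).map x₁ ≫ u = (yon S).map x₂ ≫ u := by
      rw [hx₁, hx₂, Category.assoc, Category.assoc, h]
    have hP := isPullback_specOver_tensor str (R := A') (R' := B')
    have hw : (x₁ ≫ specOverMap str (IsScalarTower.toAlgHom A A' B')) ≫
        specOverMap str (Algebra.ofId A A') = x₂ ≫ specOverMap str (Algebra.ofId A B') := by
      apply (yon S).map_injective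
      have e0 : specOverMap str (Algebra.ofId A B') =
          specOverMap str (IsScalarTower.toAlgHom A A' B') ≫ specOverMap str (Algebra.ofId A A') := by
        rw [← specOverMap_comp]
        congr 1
        ext
      rw [e0]
      simp only [Functor.map_comp, Category.assoc]
      rw [← sq.w, ← Category.assoc, hu, Category.assoc]
    let z := hP.lift (x₁ ≫ specOverMap str (IsScalarTower.toAlgHom A A' B')) x₂ hw
    have hz1 : z ≫ specOverMap str θ = x₁ := by
      apply hext
      · rw [Functor.map_comp, Category.assoc, hθu, ← Category.assoc, ← Functor.map_comp,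
          hP.lift_snd, hu]
      · rw [Category.assoc, ← specOverMap_comp, hθL, hP.lift_fst]
    have hz2 : z ≫ specOverMap str (includeRight : B' →ₐ[A] A' ⊗[A] B') = x₂ := hP.lift_snd _ _ _
    rw [← Category.assoc, ← Category.assoc, ← hx₁, ← hx₂, ← Functor.map_comp, ← Functor.map_comp,
      ← hz1, ← hz2, Category.assoc, Category.assoc, hMeq]
  let g : F ⟶ (yon S).obj (specOver str M) :=
    EffectiveEpi.desc u ((yon S).map (specOverMap str M.val)) hcoeq
  have hug : u ≫ g = (yon S).map (specOverMap str M.val) := EffectiveEpi.fac _ _ _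
  have hgπ : g ≫ (yon S).map (specOverMap str (Algebra.ofId A M)) = π := by
    rw [← cancel_epi u, ← Category.assoc, hug, sq.w, ← Functor.map_comp, ← Functor.map_comp,
      sqW.w]
  refine ⟨M, g, ?_, hgπ, hug, sqW⟩
  -- `g` is an isomorphism
  have sqWy := sqW.map (yon S)
  have sqg : IsPullback u (𝟙 _) g ((yon S).map (specOverMap str M.val)) := by
    apply IsPullback.of_bot _ _ sqWy
    · rw [Category.id_comp, hgπ]
      exact sq
    · rw [Category.id_comp, hug]
  have : Sheaf.IsLocallySurjective ((yon S).map (specOverMap str M.val)) :=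
    isLocallySurjective_of_isPullback sqWy.flip
  have : Mono g := mono_of_isPullback_of_isLocallySurjective sqg
  have : Sheaf.IsLocallySurjective g :=
    Presheaf.isLocallySurjective_of_isLocallySurjective_fac (J S)
      (congrArg (fun m => m.hom) hug)
  exact isIso_of_mono_of_isLocallySurjective g

end

end Groth.Agent.H5.Descent
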