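import Groth.Agent.Lib.Helper5.Descent.SepLQFDescent
import Groth.Agent.Lib.Helper5.AlgSp.ZarLocalRep
import Groth.Agent.Lib.Helper5.AlgSp.DiagPres
import Groth.Agent.Lib.Helper5.AlgSp.FppfLocal
import Mathlib

/-!
# Descent of separated locally quasi-finite morphisms along locally surjective maps of sheaves
-/

set_option autoImplicit false

universe u

open CategoryTheory CategoryTheory.Limits AlgebraicGeometry Opposite

namespace Groth.Agent.H5.Descent

open _root_.AlgSp Groth.Agent.H5.AlgSp

variable {S : Scheme.{u}} {F G H : Sp S}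

/-- Restriction of a morphism over `S` to an open of the target. -/
noncomputable def overRestrict {Y T : Over S} (g : Y ⟶ T) (V : T.left.Opens) :
    overOpen Y (g.left ⁻¹ᵁ V) ⟶ overOpen T V :=
  Over.homMk (g.left ∣_ V) (by
    change (g.left ∣_ V) ≫ V.ι ≫ T.hom = (g.left ⁻¹ᵁ V).ι ≫ Y.hom
    rw [← Category.assoc, morphismRestrict_ι, Category.assoc, Over.w])

lemma overRestrict_left {Y T : Over S} (g : Y ⟶ T) (V : T.left.Opens) :
    (overRestrict g V).left = g.left ∣_ V := rfl

lemma overRestrict_comp {Y T : Over S} (g : Y ⟶ T) (V : T.left.Opens) :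
    overRestrict g V ≫ overOpenι T V = overOpenι Y (g.left ⁻¹ᵁ V) ≫ g := by
  apply Over.OverMorphism.ext
  change (g.left ∣_ V) ≫ V.ι = (g.left ⁻¹ᵁ V).ι ≫ g.left
  exact morphismRestrict_ι _ _

lemma surjective_overRestrict {Y T : Over S} (g : Y ⟶ T) (V : T.left.Opens)
    (hVr : (V : Set T.left) ⊆ Set.range g.left) : Surjective (overRestrict g V).left := by
  rw [overRestrict_left]
  refine ⟨fun v => ?_⟩
  obtain ⟨y, hy⟩ := hVr v.2
  have hyV : y ∈ g.left ⁻¹ᵁ V := by
    change g.left y ∈ V
    rw [hy]; exact v.2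
  refine ⟨⟨y, hyV⟩, ?_⟩
  apply V.ι.isOpenEmbedding.injective
  rw [← Scheme.Hom.comp_apply, morphismRestrict_ι, Scheme.Hom.comp_apply]
  exact hy

/-- A covering sieve of the big fppf site contains, locally on the target, a single fppf
covering of an affine open. -/
lemma exists_local_fppf_of_mem_J {T : Over S} {R : Sieve T} (hR : R ∈ J S T) (t : T.left) :
    ∃ (V : T.left.Opens), t ∈ V ∧ IsAffineOpen V ∧ ∃ (Y : Over S) (c : Y ⟶ overOpen T V),
      Flat c.left ∧ LocallyOfFinitePresentation c.left ∧ Surjective c.left ∧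
      R (c ≫ overOpenι T V) := by
  obtain ⟨R₀, hR₀, hle⟩ := (mem_J_iff R).1 hR
  obtain ⟨Y₀, g₀, hg₀, ht⟩ := exists_mem_range_of_mem_fppf hR₀ t
  have hfl : (@Flat ⊓ @LocallyOfFinitePresentation : MorphismProperty Scheme) g₀ := hR₀.2 hg₀
  obtain ⟨hg⟩ := hg₀
  rename_i Y g
  have h1 : Flat g.left := hfl.1
  have h2 : LocallyOfFinitePresentation g.left := hfl.2
  have hopen : IsOpen (Set.range g.left) := g.left.isOpenMap.isOpen_range
  have ht' : t ∈ Set.range g.left := ht
  obtain ⟨_, ⟨V, hV, rfl⟩, htV, hVr⟩ :=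
    T.left.isBasis_affineOpens.exists_subset_of_mem_open ht' hopen
  refine ⟨V, htV, hV, overOpen Y (g.left ⁻¹ᵁ V), overRestrict g V, ?_, ?_,
    surjective_overRestrict g V hVr, ?_⟩
  · rw [overRestrict_left]
    infer_instance
  · rw [overRestrict_left]
    infer_instance
  · rw [overRestrict_comp]
    exact R.downward_closed (hle _ _ hg) _

/-- **Representability is Zariski local on the target**, pointwise form. -/
theorem representable_of_forall_exists_open {f : F ⟶ G}
    (h : ∀ (T : Over S) (g : (yon S).obj T ⟶ G) (t : T.left), ∃ (V : T.left.Opens), t ∈ V ∧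
      ∃ (W : Over S) (i : W ⟶ overOpen T V) (fst : (yon S).obj W ⟶ F),
        IsPullback fst ((yon S).map i) f ((yon S).map (overOpenι T V) ≫ g)) :
    Representable f := by
  intro T g
  have sqP := IsPullback.of_hasPullback f g
  choose V htV W i fst hsq using h T g
  have hw : ∀ t, fst t ≫ f = ((yon S).map (i t ≫ overOpenι T (V t))) ≫ g := fun t => by
    rw [Functor.map_comp, Category.assoc]; exact (hsq t).w
  let c : ∀ t : T.left, (yon S).obj (W t) ⟶ pullback f g := fun t =>
    pullback.lift (fst t) ((yon S).map (i t ≫ overOpenι T (V t))) (hw t)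
  have hcsq : ∀ t, IsPullback (c t) ((yon S).map (i t)) (pullback.snd f g)
      ((yon S).map (overOpenι T (V t))) := fun t => by
    apply IsPullback.of_right (h₁₂ := pullback.fst f g) (h₂₂ := g) _ _ sqP
    · have : c t ≫ pullback.fst f g = fst t := pullback.lift_fst _ _ _
      rw [this]
      exact hsq t
    · have : c t ≫ pullback.snd f g = (yon S).map (i t ≫ overOpenι T (V t)) :=
        pullback.lift_snd _ _ _
      rw [this, Functor.map_comp]
  have hc : ∀ t, RepWith @IsOpenImmersion (c t) := fun t =>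
    MorphismProperty.of_isPullback (P := RepWith @IsOpenImmersion) (hcsq t).flip
      (repWith_overOpenι @IsOpenImmersion (fun _ => inferInstance) T (V t))
  have hsurj : ∀ x : Points (pullback f g), ∃ (t : T.left) (u : ↥(W t).left),
      Points.ofPt (c t) u = x := by
    intro x
    obtain ⟨t, ht⟩ := (Points.schemeHomeo T).surjective (Points.map (pullback.snd f g) x)
    have hpt : Points.map (pullback.snd f g) x =
        Points.ofPt ((yon S).map (overOpenι T (V t))) ⟨t, htV t⟩ := by
      rw [← ht, Points.ofPt_eq_map_ofScheme]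
      have := Points.map_yon_map_apply (overOpenι T (V t)) ⟨t, htV t⟩
      exact this.symm
    obtain ⟨u, -, hu⟩ := exists_point_of_isPullback (hcsq t) x ⟨t, htV t⟩ hpt
    exact ⟨t, u, hu⟩
  obtain ⟨X, e, -⟩ := LocalRep.exists_iso hc hsurj
  obtain ⟨snd, fst', sq'⟩ := exists_isPullback_of_iso g sqP e
  exact ⟨X, snd, fst', sq'⟩

/-- **Separated locally quasi-finite morphisms of sheaves descend along locally surjective maps**
(no representability assumption on the cover). -/
theorem representable_of_locallySurjective_baseChange_sepLQF {f : F ⟶ G} {b : H ⟶ G}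
    [Sheaf.IsLocallySurjective b] {P : Sp S}
    {fst : P ⟶ F} {snd : P ⟶ H} (sq : IsPullback fst snd f b) (h1 : RepWith @IsSeparated snd)
    (h2 : RepWith @LocallyQuasiFinite snd) (h3 : RepWith @LocallyOfFiniteType snd) :
    Representable f := by
  apply representable_of_forall_exists_open
  intro T g t
  obtain ⟨V, htV, hV, Y, c, hc1, hc2, hc3, τ, hτ⟩ :=
    exists_local_fppf_of_mem_J (liftSieve_mem b g) t
  refine ⟨V, htV, ?_⟩
  have : IsAffine (overOpen T V).left := hV
  set g' := (yon S).map (overOpenι T V) ≫ g with hg'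
  have hτ' : τ ≫ b = (yon S).map c ≫ g' := by
    rw [hτ, Functor.map_comp, Category.assoc]
  -- `W' = P ×_H Y`
  have sqv := h1.rep.isPullback τ
  set v := h1.rep.snd τ with hv
  have hv1 : IsSeparated v.left := h1.property_snd τ
  have hv2 : LocallyQuasiFinite v.left := h2.property _ _ _ sqv
  have hv3 : LocallyOfFiniteType v.left := h3.property _ _ _ sqv
  have big : IsPullback (h1.rep.fst τ ≫ fst) ((yon S).map v) f ((yon S).map c ≫ g') := by
    rw [← hτ']
    exact sqv.paste_horiz sq
  have sqP := IsPullback.of_hasPullback f g'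
  have hw : (h1.rep.fst τ ≫ fst) ≫ f = ((yon S).map v ≫ (yon S).map c) ≫ g' := by
    rw [Category.assoc _ _ g']
    exact big.w
  have sqD : IsPullback (sqP.lift _ _ hw) ((yon S).map v) (pullback.snd f g') ((yon S).map c) := by
    apply IsPullback.of_right (h₁₂ := pullback.fst f g') (h₂₂ := g') _ (sqP.lift_snd _ _ _) sqP
    rw [sqP.lift_fst]
    exact big
  obtain ⟨W, w, e, he⟩ := exists_descent_of_sepLQF c v (pullback.snd f g') _ sqD
  refine ⟨W, w, e.hom ≫ pullback.fst f g', ?_⟩
  refine IsPullback.of_iso sqP e.symm (Iso.refl _) (Iso.refl _) (Iso.refl _) (by simp) ?_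
    (by simp) (by simp)
  rw [Iso.refl_hom, Category.comp_id, Iso.symm_hom, ← he, Iso.inv_hom_id_assoc]

end Groth.Agent.H5.Descent
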