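import Groth.Agent.Lib.Helper5.Descent.AffineDescent2
import Groth.Agent.Lib.Helper5.AlgSp.ZarLocalRep
import Groth.Agent.Lib.Helper5.AlgSp.AffineMor
import Groth.Agent.Lib.Helper5.AlgSp.LocalBase
import Groth.Agent.Lib.Helper5.AlgSp.FppfLocal
import Mathlib

/-!
# Affine morphisms of sheaves descend along fppf covers
-/

set_option autoImplicit false

universe u

open CategoryTheory CategoryTheory.Limits AlgebraicGeometry Opposite

namespace Groth.Agent.H5.Descent

open _root_.AlgSp Groth.Agent.H5.AlgSp

variable {S : Scheme.{u}} {F G H : Sp S}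

/-- **Affine morphisms descend along representable fppf covers.** -/
theorem isAffineMor_of_baseChange {f : F ⟶ G} {b : H ⟶ G} (hb1 : RepWith @Flat b)
    (hb2 : RepWith @LocallyOfFinitePresentation b) (hb3 : RepWith @Surjective b) {P : Sp S}
    {fst : P ⟶ F} {snd : P ⟶ H} (sq : IsPullback fst snd f b) (h : IsAffineMor snd) :
    IsAffineMor f := by
  intro Z hZ g
  have : IsAffine Z.left := hZ
  have h' : RepWith @IsAffineHom snd := repWith_isAffineHom_of_isAffineMor h
  -- `T' = H ×_G Z`
  have sqb := hb1.rep.isPullback g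
  set τ := hb1.rep.fst g with hτ
  set c := hb1.rep.snd g with hc
  have hc1 : Flat c.left := hb1.property_snd g
  have hc2 : LocallyOfFinitePresentation c.left := hb2.property _ _ _ sqb
  have hc3 : Surjective c.left := hb3.property _ _ _ sqb
  -- `W' = P ×_H T'`
  have sqv := h'.rep.isPullback τ
  set v := h'.rep.snd τ with hv
  have hv1 : IsAffineHom v.left := h'.property_snd τ
  have big : IsPullback (h'.rep.fst τ ≫ fst) ((yon S).map v) f ((yon S).map c ≫ g) := by
    rw [← sqb.w]
    exact sqv.paste_horiz sq
  have sqP := IsPullback.of_hasPullback f g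
  have hw : (h'.rep.fst τ ≫ fst) ≫ f = ((yon S).map v ≫ (yon S).map c) ≫ g := by
    rw [Category.assoc _ _ g]
    exact big.w
  have sqD : IsPullback (sqP.lift _ _ hw) ((yon S).map v) (pullback.snd f g) ((yon S).map c) := by
    apply IsPullback.of_right (h₁₂ := pullback.fst f g) (h₂₂ := g) _ (sqP.lift_snd _ _ _) sqP
    rw [sqP.lift_fst]
    exact big
  obtain ⟨W, w, e, hW, he⟩ := exists_descent_of_isAffineHom c v (pullback.snd f g) _ sqD
  refine ⟨W, w, e.hom ≫ pullback.fst f g, ?_, hW⟩
  refine IsPullback.of_iso sqP e.symm (Iso.refl _) (Iso.refl _) (Iso.refl _) (by simp) ?_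
    (by simp) (by simp)
  rw [Iso.refl_hom, Category.comp_id, Iso.symm_hom, ← he, Iso.inv_hom_id_assoc]

/-- Affine morphisms descend along surjective étale base change. -/
theorem isAffineMor_of_baseChange_etale {f : F ⟶ G} {b : H ⟶ G} (hbe : RepWith @Etale b)
    (hbs : RepWith @Surjective b) {P : Sp S}
    {fst : P ⟶ F} {snd : P ⟶ H} (sq : IsPullback fst snd f b) (h : IsAffineMor snd) :
    IsAffineMor f :=
  isAffineMor_of_baseChange (repWith_mono etale_le_flat hbe) (repWith_mono etale_le_lfp hbe) hbs
    sq h

/-- `RepWith Q` descends along representable fppf covers for `Q` implying affine and fppf local on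
the target. -/
theorem repWith_of_baseChange_of_le_isAffineHom {Q : MorphismProperty Scheme.{u}}
    [Q.IsStableUnderBaseChange] [Q.IsLocalAtTarget Scheme.fppfPrecoverage]
    (hQ : Q ≤ @IsAffineHom) {f : F ⟶ G} {b : H ⟶ G} (hb1 : RepWith @Flat b)
    (hb2 : RepWith @LocallyOfFinitePresentation b) (hb3 : RepWith @Surjective b) {P : Sp S}
    {fst : P ⟶ F} {snd : P ⟶ H} (sq : IsPullback fst snd f b) (h : RepWith Q snd) :
    RepWith Q f := by
  have h1 : IsAffineMor f :=
    isAffineMor_of_baseChange hb1 hb2 hb3 sq (isAffineMor_of_repWith (repWith_mono hQ h))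
  have hrep : Representable f := (repWith_isAffineHom_of_isAffineMor h1).rep
  have : Sheaf.IsLocallySurjective b := isLocallySurjective_of_repWith b hb1 hb2 hb3
  exact repWith_of_locallySurjective_baseChange f hrep b fst snd sq Q h

end Groth.Agent.H5.Descent
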