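import Groth.Agent.Lib.Helper5.Descent.AffineDescent
import Groth.Agent.Lib.Helper5.AlgSp.Cover
import Groth.Agent.Lib.Helper5.AlgSp.AffineBase
import Mathlib

/-!
# Effective descent of affine schemes along fppf covers (scheme form)
-/

set_option autoImplicit false

universe u

open CategoryTheory CategoryTheory.Limits AlgebraicGeometry Opposite TensorProduct

namespace Groth.Agent.H5.Descent

open _root_.AlgSp Groth.Agent.H5.AlgSp

variable {S : Scheme.{u}}

/-- Affine schemes `T`, `T'`, `W'`. -/
theorem exists_descent_of_isAffine {T T' W' : Over S} [IsAffine T.left] [IsAffine T'.left]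
    [IsAffine W'.left] (c : T' ⟶ T) (v : W' ⟶ T') [Flat c.left]
    [Sheaf.IsLocallySurjective ((yon S).map c)] {F : Sp S} (π : F ⟶ (yon S).obj T)
    (u : (yon S).obj W' ⟶ F) (sq : IsPullback u ((yon S).map v) π ((yon S).map c)) :
    ∃ (W : Over S) (w : W ⟶ T) (e : (yon S).obj W ≅ F),
      IsAffine W.left ∧ e.hom ≫ π = (yon S).map w := by
  let A : Type u := Γ(T.left, ⊤)
  let A' : Type u := Γ(T'.left, ⊤)
  let B' : Type u := Γ(W'.left, ⊤)
  let φ : A →+* A' := c.left.appTop.hom
  let ψ : A' →+* B' := v.left.appTop.hom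
  let _ : Algebra A A' := φ.toAlgebra
  let _ : Algebra A' B' := ψ.toAlgebra
  let _ : Algebra A B' := (ψ.comp φ).toAlgebra
  have : IsScalarTower A A' B' := IsScalarTower.of_algebraMap_eq (fun _ => rfl)
  have : Module.Flat A A' := by
    have h : Flat c.left := inferInstance
    rw [HasRingHomProperty.iff_of_isAffine (P := @Flat)] at h
    exact h
  let str : Spec (.of A) ⟶ S := T.left.isoSpec.inv ≫ T.hom
  have hidA : Spec.map (CommRingCat.ofHom (algebraMap A A)) = 𝟙 _ := by
    rw [Algebra.algebraMap_self]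
    exact Spec.map_id _
  let eT : specOver str A ≅ T := Over.isoMk T.left.isoSpec.symm (by
    change T.left.isoSpec.inv ≫ T.hom = Spec.map (CommRingCat.ofHom (algebraMap A A)) ≫ str
    rw [hidA, Category.id_comp])
  let eT' : specOver str A' ≅ T' := Over.isoMk T'.left.isoSpec.symm (by
    change T'.left.isoSpec.inv ≫ T'.hom = Spec.map (CommRingCat.ofHom (algebraMap A A')) ≫ str
    have h1 : Spec.map (CommRingCat.ofHom (algebraMap A A')) ≫ T.left.isoSpec.inv =
        T'.left.isoSpec.inv ≫ c.left := Scheme.isoSpec_inv_naturality c.left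
    rw [← Category.assoc, h1, Category.assoc, Over.w c])
  let eW' : specOver str B' ≅ W' := Over.isoMk W'.left.isoSpec.symm (by
    change W'.left.isoSpec.inv ≫ W'.hom = Spec.map (CommRingCat.ofHom (algebraMap A B')) ≫ str
    have h1 : Spec.map (CommRingCat.ofHom (algebraMap A B')) ≫ T.left.isoSpec.inv =
        W'.left.isoSpec.inv ≫ (v ≫ c).left := by
      have := Scheme.isoSpec_inv_naturality (v ≫ c).left
      rw [← this]
      congr 2
    rw [← Category.assoc, h1, Category.assoc, Over.w (v ≫ c)])
  have hc : eT'.hom ≫ c = specOverMap str (Algebra.ofId A A') ≫ eT.hom := by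
    apply Over.OverMorphism.ext
    change T'.left.isoSpec.inv ≫ c.left = Spec.map _ ≫ T.left.isoSpec.inv
    exact (Scheme.isoSpec_inv_naturality c.left).symm
  have hv : eW'.hom ≫ v = specOverMap str (IsScalarTower.toAlgHom A A' B') ≫ eT'.hom := by
    apply Over.OverMorphism.ext
    change W'.left.isoSpec.inv ≫ v.left = Spec.map _ ≫ T'.left.isoSpec.inv
    exact (Scheme.isoSpec_inv_naturality v.left).symm
  have sq' : IsPullback ((yon S).map eW'.hom ≫ u)
      ((yon S).map (specOverMap str (IsScalarTower.toAlgHom A A' B')))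
      (π ≫ (yon S).map eT.inv) ((yon S).map (specOverMap str (Algebra.ofId A A'))) := by
    refine IsPullback.of_iso sq ((yon S).mapIso eW'.symm) (Iso.refl F) ((yon S).mapIso eT'.symm)
      ((yon S).mapIso eT.symm) ?_ ?_ ?_ ?_
    · simp
    · simp only [Functor.mapIso_hom, Iso.symm_hom]
      rw [← Functor.map_comp, ← Functor.map_comp]
      congr 1
      rw [Iso.eq_inv_comp, ← Category.assoc, hv, Category.assoc, Iso.hom_inv_id, Category.comp_id]
    · simp
    · simp only [Functor.mapIso_hom, Iso.symm_hom]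
      rw [← Functor.map_comp, ← Functor.map_comp]
      congr 1
      rw [Iso.eq_inv_comp, ← Category.assoc, hc, Category.assoc, Iso.hom_inv_id, Category.comp_id]
  have : Sheaf.IsLocallySurjective ((yon S).map (specOverMap str (Algebra.ofId A A'))) := by
    have : specOverMap str (Algebra.ofId A A') = eT'.hom ≫ c ≫ eT.inv := by
      rw [← Category.assoc, hc, Category.assoc, Iso.hom_inv_id, Category.comp_id]
    rw [this, Functor.map_comp, Functor.map_comp]
    infer_instance
  obtain ⟨M, g, hg, hgπ, -, -⟩ := exists_descent str sq'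
  refine ⟨specOver str M, specOverMap str (Algebra.ofId A M) ≫ eT.hom, (asIso g).symm,
    inferInstanceAs (IsAffine (Spec (.of M))), ?_⟩
  change inv g ≫ π = _
  rw [IsIso.inv_comp_eq, Functor.map_comp, ← Category.assoc, hgπ, Category.assoc,
    ← Functor.map_comp, Iso.inv_hom_id, CategoryTheory.Functor.map_id, Category.comp_id]

/-- `T` affine, `T' → T` an fppf cover, `W' → T'` affine. -/
theorem exists_descent_of_isAffineHom {T T' W' : Over S} [IsAffine T.left] (c : T' ⟶ T)
    (v : W' ⟶ T') [Flat c.left] [Surjective c.left] [LocallyOfFinitePresentation c.left]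
    [IsAffineHom v.left] {F : Sp S} (π : F ⟶ (yon S).obj T)
    (u : (yon S).obj W' ⟶ F) (sq : IsPullback u ((yon S).map v) π ((yon S).map c)) :
    ∃ (W : Over S) (w : W ⟶ T) (e : (yon S).obj W ≅ F),
      IsAffine W.left ∧ e.hom ≫ π = (yon S).map w := by
  have hopen : IsOpenMap c.left := c.left.isOpenMap
  have hcov : (Set.univ : Set T.left) ⊆
      ⋃ U : T'.left.affineOpens, c.left '' (U.1 : Set T'.left) := by
    intro t _
    obtain ⟨t', rfl⟩ := c.left.surjective t
    obtain ⟨_, ⟨U, hU, rfl⟩, ht'U, -⟩ := T'.left.isBasis_affineOpens.exists_subset_of_mem_open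
      (Set.mem_univ t') isOpen_univ
    exact Set.mem_iUnion.2 ⟨⟨U, hU⟩, t', ht'U, rfl⟩
  obtain ⟨s, hs⟩ := isCompact_univ.elim_finite_subcover
    (fun U : T'.left.affineOpens => c.left '' (U.1 : Set T'.left))
    (fun U => hopen _ U.1.2) hcov
  let I : Type u := {U : T'.left.affineOpens // U ∈ s}
  let g : I → Scheme.{u} := fun U => (U.1.1 : Scheme.{u})
  have hgaff : ∀ i, IsAffine (g i) := fun i => i.1.2
  let j₀ : (∐ g) ⟶ T'.left := Sigma.desc (fun U : I => U.1.1.ι)
  have hj₀flat : Flat j₀ := IsZariskiLocalAtSource.sigmaDesc (fun i => inferInstance)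
  have hj₀lfp : LocallyOfFinitePresentation j₀ :=
    IsZariskiLocalAtSource.sigmaDesc (fun i => inferInstance)
  let T'' : Over S := Over.mk (j₀ ≫ T'.hom)
  let j : T'' ⟶ T' := Over.homMk j₀ rfl
  have hT''aff : IsAffine T''.left := inferInstanceAs (IsAffine (∐ g))
  have hcflat : Flat (j ≫ c).left := by
    rw [Over.comp_left]
    exact inferInstanceAs (Flat (j₀ ≫ c.left))
  have hclfp : LocallyOfFinitePresentation (j ≫ c).left := by
    rw [Over.comp_left]
    exact inferInstanceAs (LocallyOfFinitePresentation (j₀ ≫ c.left))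
  have hcsurj : Surjective (j ≫ c).left := by
    rw [Over.comp_left]
    refine ⟨fun t => ?_⟩
    have := hs (Set.mem_univ t)
    simp only [Set.mem_iUnion] at this
    obtain ⟨U, hUs, t', ht'U, rfl⟩ := this
    refine ⟨Sigma.ι g ⟨U, hUs⟩ ⟨t', ht'U⟩, ?_⟩
    change (j₀ ≫ c.left) _ = _
    rw [Scheme.Hom.comp_apply, ← Scheme.Hom.comp_apply (Sigma.ι g ⟨U, hUs⟩) j₀, Sigma.ι_desc]
    rfl
  have hv'' : IsAffineHom (pullback.snd v j).left := by
    rw [left_pullback_snd_iff @IsAffineHom]
    infer_instance
  have hW''aff : IsAffine (pullback v j).left := isAffine_of_isAffineHom (pullback.snd v j).left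
  have sq'' : IsPullback ((yon S).map (pullback.fst v j) ≫ u) ((yon S).map (pullback.snd v j)) π
      ((yon S).map (j ≫ c)) := by
    rw [Functor.map_comp]
    exact ((IsPullback.of_hasPullback v j).map (yon S)).flip.paste_vert sq.flip |>.flip
  have : Sheaf.IsLocallySurjective ((yon S).map (j ≫ c)) :=
    isLocallySurjective_of_repWith _ ((repWith_yon_map_iff @Flat _).2 hcflat)
      ((repWith_yon_map_iff @LocallyOfFinitePresentation _).2 hclfp)
      ((repWith_yon_map_iff @Surjective _).2 hcsurj)
  exact exists_descent_of_isAffine (j ≫ c) (pullback.snd v j) π _ sq''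

end Groth.Agent.H5.Descent
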