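import Groth.Agent.Lib.Helper5.Descent.CoalgDescent
import Mathlib

/-!
# The coaction from an "action groupoid" presented by rings of functions
-/

set_option autoImplicit false

universe u

open TensorProduct Algebra.TensorProduct

namespace Groth.Agent.H5.Descent

variable {A A' B' C₂ C₃ : Type u} [CommRing A] [CommRing A'] [CommRing B'] [CommRing C₂]
  [CommRing C₃] [Algebra A A'] [Algebra A B'] [Algebra A' B'] [IsScalarTower A A' B']
  [Algebra A C₂]

/-- Abstract form of the construction of the coaction `θ : B' → A' ⊗ B'` from the ring maps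
induced by the projections and the action map of `T' ×_T W'`, and its axioms. -/
theorem exists_coaction (q₁s : A' →+* C₂) (q₂s : B' →+* C₂) (acts : B' →+* C₂) (es : C₂ →+* B')
    (r₁s : A' →+* C₃) (r₂s : C₂ →+* C₃) (m₁s m₂s : C₂ →+* C₃)
    (ψ₂ : A' ⊗[A] B' ≃+* C₂) (hψ₂ : ∀ a b, ψ₂ (a ⊗ₜ b) = q₁s a * q₂s b)
    (hAC : ∀ r : A, algebraMap A C₂ r = q₂s (algebraMap A B' r))
    (hAC' : ∀ r : A, q₁s (algebraMap A A' r) = q₂s (algebraMap A B' r))
    (ψ₃ : A' ⊗[A] C₂ ≃+* C₃) (hψ₃ : ∀ a x, ψ₃ (a ⊗ₜ x) = r₁s a * r₂s x)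
    (hi : ∀ a, acts (algebraMap A' B' a) = q₁s a)
    (he1 : ∀ a, es (q₁s a) = algebraMap A' B' a) (he2 : ∀ b, es (q₂s b) = b)
    (he3 : ∀ b, es (acts b) = b)
    (hm11 : ∀ a, m₁s (q₁s a) = r₁s a) (hm12 : ∀ b, m₁s (q₂s b) = r₂s (acts b))
    (hm21 : ∀ a, m₂s (q₁s a) = r₁s a) (hm22 : ∀ b, m₂s (q₂s b) = r₂s (q₂s b))
    (hm : ∀ b, m₁s (acts b) = m₂s (acts b)) :
    ∃ θ : B' →ₐ[A] A' ⊗[A] B', (∀ b, ψ₂ (θ b) = acts b) ∧
      (∀ a : A', θ (algebraMap A' B' a) = a ⊗ₜ 1) ∧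
      (∀ b : B', counit A A' B' (θ b) = b) ∧
      (∀ b : B', map (AlgHom.id A A') θ (θ b) =
        map (AlgHom.id A A') (includeRight : B' →ₐ[A] A' ⊗[A] B') (θ b)) := by
  let θ₀ : B' →+* A' ⊗[A] B' := (ψ₂.symm : C₂ →+* A' ⊗[A] B').comp acts
  have hθ₀ : ∀ b, ψ₂ (θ₀ b) = acts b := fun b => ψ₂.apply_symm_apply _
  have h1₀ : ∀ a : A', θ₀ (algebraMap A' B' a) = a ⊗ₜ 1 := by
    intro a
    apply ψ₂.injective
    rw [hθ₀, hi, hψ₂, map_one, mul_one]
  let θ : B' →ₐ[A] A' ⊗[A] B' :=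
    { θ₀ with
      commutes' := fun r => by
        change θ₀ (algebraMap A B' r) = algebraMap A (A' ⊗[A] B') r
        rw [IsScalarTower.algebraMap_apply A A' B', h1₀, Algebra.TensorProduct.algebraMap_apply] }
  have hθ : ∀ b, ψ₂ (θ b) = acts b := hθ₀
  refine ⟨θ, hθ, h1₀, ?_, ?_⟩
  · -- counit
    have key : ∀ z : A' ⊗[A] B', counit A A' B' z = es (ψ₂ z) := by
      intro z
      induction z using TensorProduct.induction_on with
      | zero => simp
      | tmul a b => rw [counit_tmul, hψ₂, map_mul, he1, he2]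
      | add x y hx hy => rw [map_add, map_add, map_add, hx, hy]
    intro b
    rw [key, hθ, he3]
  · -- coassociativity
    let ψ₂a : A' ⊗[A] B' ≃ₐ[A] C₂ :=
      { ψ₂ with
        commutes' := fun r => by
          change ψ₂ (algebraMap A (A' ⊗[A] B') r) = algebraMap A C₂ r
          rw [Algebra.TensorProduct.algebraMap_apply, hψ₂, map_one, mul_one, hAC, hAC'] }
    let Ψ : A' ⊗[A] (A' ⊗[A] B') ≃ₐ[A] A' ⊗[A] C₂ :=
      Algebra.TensorProduct.congr AlgEquiv.refl ψ₂a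
    have hΨ : ∀ a z, Ψ (a ⊗ₜ z) = a ⊗ₜ ψ₂ z := fun a z => rfl
    have keyA : ∀ z : A' ⊗[A] B', ψ₃ (Ψ (map (AlgHom.id A A') θ z)) = m₁s (ψ₂ z) := by
      intro z
      induction z using TensorProduct.induction_on with
      | zero => simp
      | tmul a b =>
        rw [Algebra.TensorProduct.map_tmul, AlgHom.id_apply, hΨ, hψ₃, hθ, hψ₂, map_mul, hm11, hm12]
      | add x y hx hy => simp only [map_add, hx, hy]
    have keyB : ∀ z : A' ⊗[A] B',
        ψ₃ (Ψ (map (AlgHom.id A A') (includeRight : B' →ₐ[A] A' ⊗[A] B') z)) = m₂s (ψ₂ z) := by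
      intro z
      induction z using TensorProduct.induction_on with
      | zero => simp
      | tmul a b =>
        rw [Algebra.TensorProduct.map_tmul, AlgHom.id_apply, hΨ, hψ₃, includeRight_apply, hψ₂, map_one, one_mul, hψ₂,
          map_mul, hm21, hm22]
      | add x y hx hy => simp only [map_add, hx, hy]
    intro b
    apply Ψ.injective
    apply ψ₃.injective
    rw [keyA, keyB, hθ, hm]

end Groth.Agent.H5.Descent
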