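import Groth.Agent.Lib.Helper5.Descent.FlatBaseChangeGamma
import Groth.Agent.Lib.Helper5.Descent.CoalgFromGeom
import Groth.Agent.Lib.Helper5.Descent.ImmersionDescent
import Groth.Agent.Lib.Helper5.AlgSp.AffineBase
import Mathlib

/-!
# Effective fppf descent for quasi-affine schemes (sheaf version)
-/

set_option autoImplicit false

universe u

open CategoryTheory CategoryTheory.Limits AlgebraicGeometry Opposite TensorProduct
  Algebra.TensorProduct

namespace Groth.Agent.H5.Descent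

open _root_.AlgSp Groth.Agent.H5.AlgSp

variable {S : Scheme.{u}}

section

variable {T T' W' : Over S} (c : T' ⟶ T) (v : W' ⟶ T') {F : Sp S}
  (π : F ⟶ (yon S).obj T) (u : (yon S).obj W' ⟶ F)

/-- The coaction on global sections of a quasi-affine `W'` with `h_{W'} = F ×_T T'`. -/
theorem exists_coaction_of_isPullback [IsAffine T.left] [IsAffine T'.left]
    [W'.left.IsQuasiAffine] [Flat c.left]
    (sq : IsPullback u ((yon S).map v) π ((yon S).map c)) :
    letI : Algebra Γ(T.left, ⊤) Γ(T'.left, ⊤) := (sharp c).toAlgebra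
    letI : Algebra Γ(T'.left, ⊤) Γ(W'.left, ⊤) := (sharp v).toAlgebra
    letI : Algebra Γ(T.left, ⊤) Γ(W'.left, ⊤) := (sharp (v ≫ c)).toAlgebra
    ∃ (_ : IsScalarTower Γ(T.left, ⊤) Γ(T'.left, ⊤) Γ(W'.left, ⊤))
      (θ : Γ(W'.left, ⊤) →ₐ[Γ(T.left, ⊤)] Γ(T'.left, ⊤) ⊗[Γ(T.left, ⊤)] Γ(W'.left, ⊤)),
      (∀ a, θ (algebraMap Γ(T'.left, ⊤) Γ(W'.left, ⊤) a) = a ⊗ₜ 1) ∧
      (∀ b, counit Γ(T.left, ⊤) Γ(T'.left, ⊤) Γ(W'.left, ⊤) (θ b) = b) ∧
      (∀ b, map (AlgHom.id Γ(T.left, ⊤) Γ(T'.left, ⊤)) θ (θ b) =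
        map (AlgHom.id Γ(T.left, ⊤) Γ(T'.left, ⊤)) (includeRight :
          Γ(W'.left, ⊤) →ₐ[Γ(T.left, ⊤)] Γ(T'.left, ⊤) ⊗[Γ(T.left, ⊤)] Γ(W'.left, ⊤)) (θ b)) ∧
      (∀ {Z : Over S} (x₁ x₂ : Z ⟶ W'), (yon S).map x₁ ≫ u = (yon S).map x₂ ≫ u →
        ∀ b, θ b = 1 ⊗ₜ b → sharp x₁ b = sharp x₂ b) := by
  let _ : Algebra Γ(T.left, ⊤) Γ(T'.left, ⊤) := (sharp c).toAlgebra
  let _ : Algebra Γ(T'.left, ⊤) Γ(W'.left, ⊤) := (sharp v).toAlgebra
  let _ : Algebra Γ(T.left, ⊤) Γ(W'.left, ⊤) := (sharp (v ≫ c)).toAlgebra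
  have htower : IsScalarTower Γ(T.left, ⊤) Γ(T'.left, ⊤) Γ(W'.left, ⊤) :=
    IsScalarTower.of_algebraMap_eq' (sharp_comp v c)
  -- `W'' = T' ×_T W'`
  have sqW2 := IsPullback.of_hasPullback c (v ≫ c)
  set q₁ := pullback.fst c (v ≫ c) with hq₁
  set q₂ := pullback.snd c (v ≫ c) with hq₂
  have hcompat : ((yon S).map q₂ ≫ u) ≫ π = (yon S).map q₁ ≫ (yon S).map c := by
    rw [Category.assoc, sq.w, ← Functor.map_comp, ← Functor.map_comp, ← Functor.map_comp,
      sqW2.w]
  obtain ⟨act, hact⟩ := (yon S).map_surjective (sq.lift _ _ hcompat)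
  have hact1 : (yon S).map act ≫ u = (yon S).map q₂ ≫ u := by rw [hact, sq.lift_fst]
  have hact2 : act ≫ v = q₁ := by
    apply (yon S).map_injective
    rw [Functor.map_comp, hact, sq.lift_snd]
  have hext : ∀ {Z : Over S} (k l : Z ⟶ W'), (yon S).map k ≫ u = (yon S).map l ≫ u →
      k ≫ v = l ≫ v → k = l := by
    intro Z k l h h'
    apply (yon S).map_injective
    apply sq.hom_ext h
    rw [← Functor.map_comp, ← Functor.map_comp, h']
  -- unit
  let e : W' ⟶ pullback c (v ≫ c) := pullback.lift v (𝟙 W') (by rw [Category.id_comp])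
  have he1 : e ≫ q₁ = v := pullback.lift_fst _ _ _
  have he2 : e ≫ q₂ = 𝟙 W' := pullback.lift_snd _ _ _
  have he3 : e ≫ act = 𝟙 W' := by
    apply hext
    · rw [Functor.map_comp, Category.assoc, hact1, ← Category.assoc, ← Functor.map_comp, he2]
    · rw [Category.assoc, hact2, he1, Category.id_comp]
  -- `W''' = T' ×_T W''`
  have sqW3 := IsPullback.of_hasPullback c (q₂ ≫ v ≫ c)
  set r₁ := pullback.fst c (q₂ ≫ v ≫ c) with hr₁
  set r₂ := pullback.snd c (q₂ ≫ v ≫ c) with hr₂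
  let m₁ : pullback c (q₂ ≫ v ≫ c) ⟶ pullback c (v ≫ c) :=
    pullback.lift r₁ (r₂ ≫ act) (by
      rw [Category.assoc, ← Category.assoc act, hact2, sqW2.w, sqW3.w])
  let m₂ : pullback c (q₂ ≫ v ≫ c) ⟶ pullback c (v ≫ c) :=
    pullback.lift r₁ (r₂ ≫ q₂) (by rw [Category.assoc, sqW3.w])
  have hm11 : m₁ ≫ q₁ = r₁ := pullback.lift_fst _ _ _
  have hm12 : m₁ ≫ q₂ = r₂ ≫ act := pullback.lift_snd _ _ _
  have hm21 : m₂ ≫ q₁ = r₁ := pullback.lift_fst _ _ _
  have hm22 : m₂ ≫ q₂ = r₂ ≫ q₂ := pullback.lift_snd _ _ _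
  have hm : m₁ ≫ act = m₂ ≫ act := by
    apply hext
    · have e1 : (yon S).map m₁ ≫ (yon S).map q₂ = (yon S).map r₂ ≫ (yon S).map act := by
        rw [← Functor.map_comp, hm12, Functor.map_comp]
      have e2 : (yon S).map m₂ ≫ (yon S).map q₂ = (yon S).map r₂ ≫ (yon S).map q₂ := by
        rw [← Functor.map_comp, hm22, Functor.map_comp]
      rw [Functor.map_comp, Functor.map_comp, Category.assoc, Category.assoc, hact1,
        reassoc_of% e1, reassoc_of% e2, hact1]
    · rw [Category.assoc, Category.assoc, hact2, hm11, hm21]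
  -- topological finiteness of `W''`
  have hq₂aff : IsAffineHom q₂.left := by
    rw [hq₂, left_pullback_snd_iff @IsAffineHom]
    exact MorphismProperty.pullback_snd (P := @IsAffineHom) _ _ inferInstance
  have : CompactSpace (pullback c (v ≫ c)).left :=
    QuasiCompact.compactSpace_of_compactSpace q₂.left
  have : QuasiSeparatedSpace (pullback c (v ≫ c)).left :=
    quasiSeparatedSpace_of_quasiSeparated q₂.left
  -- flat base change
  obtain ⟨ψ₂, hψ₂⟩ := exists_ringEquiv_of_isPullback sqW2.flip rfl rfl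
  let _ : Algebra Γ(T.left, ⊤) Γ((pullback c (v ≫ c)).left, ⊤) :=
    (sharp (q₂ ≫ v ≫ c)).toAlgebra
  obtain ⟨ψ₃, hψ₃⟩ := exists_ringEquiv_of_isPullback sqW3.flip rfl rfl
  obtain ⟨θ, hθ, h1, h2, h3⟩ := exists_coaction (A := Γ(T.left, ⊤)) (A' := Γ(T'.left, ⊤))
    (B' := Γ(W'.left, ⊤)) (sharp q₁) (sharp q₂) (sharp act) (sharp e) (sharp r₁) (sharp r₂)
    (sharp m₁) (sharp m₂) ψ₂ hψ₂
    (fun r => sharp_comp_apply q₂ (v ≫ c) r)
    (fun r => by
      change sharp q₁ (sharp c r) = sharp q₂ (sharp (v ≫ c) r)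
      rw [← sharp_comp_apply, ← sharp_comp_apply, sqW2.w])
    ψ₃ hψ₃
    (fun a => by
      change sharp act (sharp v a) = _
      rw [← sharp_comp_apply, hact2])
    (fun a => by
      change _ = sharp v a
      rw [← sharp_comp_apply, he1])
    (fun b => by rw [← sharp_comp_apply, he2, sharp_id]; rfl)
    (fun b => by rw [← sharp_comp_apply, he3, sharp_id]; rfl)
    (fun a => by rw [← sharp_comp_apply, hm11])
    (fun b => by rw [← sharp_comp_apply, hm12, sharp_comp_apply])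
    (fun a => by rw [← sharp_comp_apply, hm21])
    (fun b => by rw [← sharp_comp_apply, hm22, sharp_comp_apply])
    (fun b => by rw [← sharp_comp_apply, ← sharp_comp_apply, hm])
  refine ⟨htower, θ, h1, h2, h3, ?_⟩
  intro Z x₁ x₂ hx b hb
  -- `z : Z ⟶ W''` with `z ≫ act = x₁`, `z ≫ q₂ = x₂`
  let z : Z ⟶ pullback c (v ≫ c) := pullback.lift (x₁ ≫ v) x₂ (by
    have h0 := congrArg (· ≫ π) hx
    simp only [Category.assoc, sq.w] at h0
    rw [← Functor.map_comp_assoc, ← Functor.map_comp_assoc, ← Functor.map_comp,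
      ← Functor.map_comp] at h0
    rw [Category.assoc]
    exact (yon S).map_injective h0)
  have hz1 : z ≫ q₁ = x₁ ≫ v := pullback.lift_fst _ _ _
  have hz2 : z ≫ q₂ = x₂ := pullback.lift_snd _ _ _
  have hz3 : z ≫ act = x₁ := by
    apply hext
    · rw [Functor.map_comp, Category.assoc, hact1, ← Category.assoc, ← Functor.map_comp, hz2, hx]
    · rw [Category.assoc, hact2, hz1]
  have hab : sharp act b = sharp q₂ b := by
    rw [← hθ, hb, hψ₂, map_one, one_mul]
  rw [← hz3, ← hz2, sharp_comp_apply, sharp_comp_apply, hab]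

lemma isoSpec_inv_appTop' (X : Scheme.{u}) [IsAffine X] :
    X.isoSpec.inv.appTop = (Scheme.ΓSpecIso Γ(X, ⊤)).inv := by
  have h := congrArg Scheme.Hom.appTop (Scheme.toSpecΓ_isoSpec_inv X)
  rw [Scheme.Hom.comp_appTop, Scheme.toSpecΓ_appTop, Scheme.Hom.id_appTop] at h
  rw [← cancel_mono (Scheme.ΓSpecIso Γ(X, ⊤)).hom, h, Iso.inv_hom_id]

/-- **Effective fppf descent for quasi-affine schemes** (sheaf version): `T`, `T'` affine,
`T' → T` an fppf cover, `W'` quasi-affine. -/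
theorem exists_descent_of_isQuasiAffine' [IsAffine T.left] [IsAffine T'.left]
    [W'.left.IsQuasiAffine] [Flat c.left] [Surjective c.left]
    [LocallyOfFinitePresentation c.left]
    (sq : IsPullback u ((yon S).map v) π ((yon S).map c)) :
    ∃ (W : Over S) (w : W ⟶ T) (e : (yon S).obj W ≅ F), e.hom ≫ π = (yon S).map w ∧
      W.left.IsQuasiAffine := by
  let _ : Algebra Γ(T.left, ⊤) Γ(T'.left, ⊤) := (sharp c).toAlgebra
  let _ : Algebra Γ(T'.left, ⊤) Γ(W'.left, ⊤) := (sharp v).toAlgebra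
  let _ : Algebra Γ(T.left, ⊤) Γ(W'.left, ⊤) := (sharp (v ≫ c)).toAlgebra
  obtain ⟨htower, θ, h1, h2, h3, hco⟩ := exists_coaction_of_isPullback c v π u sq
  have hflat : Module.Flat Γ(T.left, ⊤) Γ(T'.left, ⊤) :=
    (HasRingHomProperty.iff_of_isAffine (P := @Flat)).1 (inferInstanceAs (Flat c.left))
  have hbij := descMul_bijective θ h1 h2 h3
  let M : Subalgebra Γ(T.left, ⊤) Γ(W'.left, ⊤) := descAlg θ
  -- the affine scheme `W̄ = Spec M` over `T`
  let φA : CommRingCat.of Γ(T.left, ⊤) ⟶ CommRingCat.of M :=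
    CommRingCat.ofHom (algebraMap Γ(T.left, ⊤) M)
  let φM : CommRingCat.of M ⟶ Γ(W'.left, ⊤) := CommRingCat.ofHom M.val.toRingHom
  have hφ : φA ≫ φM = (v ≫ c).left.appTop := rfl
  let wbar₀ : Spec (.of M) ⟶ T.left := Spec.map φA ≫ T.left.isoSpec.inv
  let Wbar : Over S := Over.mk (wbar₀ ≫ T.hom)
  let wbar : Wbar ⟶ T := Over.homMk wbar₀ rfl
  let κ₀ : W'.left ⟶ Spec (.of M) := W'.left.toSpecΓ ≫ Spec.map φM
  have hκ₀ : κ₀ ≫ wbar₀ = (v ≫ c).left := by
    change (W'.left.toSpecΓ ≫ Spec.map φM) ≫ Spec.map φA ≫ T.left.isoSpec.inv = _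
    rw [Category.assoc, ← Category.assoc (Spec.map φM), ← Spec.map_comp, hφ,
      ← Scheme.toSpecΓ_naturality_assoc, Scheme.toSpecΓ_isoSpec_inv, Category.comp_id]
  let κ : W' ⟶ Wbar := Over.homMk κ₀ (by
    change κ₀ ≫ wbar₀ ≫ T.hom = W'.hom
    rw [← Category.assoc, hκ₀, Over.w])
  have hκw : κ ≫ wbar = v ≫ c := by
    ext
    exact hκ₀
  -- the map `F ⟶ h_{W̄}`
  have : Sheaf.IsLocallySurjective ((yon S).map c) :=
    isLocallySurjective_of_repWith _ ((repWith_yon_map_iff @Flat _).2 inferInstance)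
      ((repWith_yon_map_iff @LocallyOfFinitePresentation _).2 inferInstance)
      ((repWith_yon_map_iff @Surjective _).2 inferInstance)
  have : Sheaf.IsLocallySurjective u := isLocallySurjective_of_isPullback sq.flip
  have hepi : Epi u := inferInstance
  have : EffectiveEpi u :=
    (isRegularEpi_iff_effectiveEpi u).1 (IsRegularEpiCategory.regularEpiOfEpi u)
  have hcoeq : ∀ {Z : Sp S} (g₁ g₂ : Z ⟶ (yon S).obj W'), g₁ ≫ u = g₂ ≫ u →
      g₁ ≫ (yon S).map κ = g₂ ≫ (yon S).map κ := by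
    intro Z g₁ g₂ h
    apply hom_ext_yon
    intro X x
    obtain ⟨x₁, hx₁⟩ := (yon S).map_surjective (x ≫ g₁)
    obtain ⟨x₂, hx₂⟩ := (yon S).map_surjective (x ≫ g₂)
    have hu : (yon S).map x₁ ≫ u = (yon S).map x₂ ≫ u := by
      rw [hx₁, hx₂, Category.assoc, Category.assoc, h]
    have hκx : x₁ ≫ κ = x₂ ≫ κ := by
      ext
      change x₁.left ≫ W'.left.toSpecΓ ≫ Spec.map φM = x₂.left ≫ W'.left.toSpecΓ ≫ Spec.map φM
      rw [Scheme.toSpecΓ_naturality_assoc, Scheme.toSpecΓ_naturality_assoc, ← Spec.map_comp,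
        ← Spec.map_comp]
      congr 2
      ext m
      exact hco x₁ x₂ hu m.1 m.2
    rw [← Category.assoc, ← Category.assoc, ← hx₁, ← hx₂, ← Functor.map_comp, ← Functor.map_comp,
      hκx]
  let g : F ⟶ (yon S).obj Wbar := EffectiveEpi.desc u ((yon S).map κ) hcoeq
  have hug : u ≫ g = (yon S).map κ := EffectiveEpi.fac _ _ _
  have hgπ : g ≫ (yon S).map wbar = π := by
    rw [← cancel_epi u, ← Category.assoc, hug, sq.w, ← Functor.map_comp, ← Functor.map_comp, hκw]
  -- `W̄' = T' ×_T W̄` and `j : W' ⟶ W̄'`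
  have sqWb := IsPullback.of_hasPullback c wbar
  set p₁ := pullback.fst c wbar with hp₁
  set p₂ := pullback.snd c wbar with hp₂
  let j : W' ⟶ pullback c wbar := pullback.lift v κ hκw.symm
  have hj1 : j ≫ p₁ = v := pullback.lift_fst _ _ _
  have hj2 : j ≫ p₂ = κ := pullback.lift_snd _ _ _
  have sqTop : IsPullback u ((yon S).map j) g ((yon S).map p₂) := by
    refine IsPullback.of_bot (v₂₁ := (yon S).map p₁) (v₂₂ := (yon S).map wbar)
      (h₃₁ := (yon S).map c) ?_ ?_ (sqWb.map (yon S)).flip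
    · rw [hgπ, ← Functor.map_comp, hj1]
      exact sq
    · rw [hug, ← Functor.map_comp, hj2]
  -- `j` is an open immersion
  have hWbaff : IsAffine Wbar.left := inferInstanceAs (IsAffine (Spec (.of M)))
  have hp₂aff : IsAffineHom p₂.left := by
    rw [hp₂, left_pullback_snd_iff @IsAffineHom]
    exact MorphismProperty.pullback_snd (P := @IsAffineHom) _ _ inferInstance
  have hWb'aff : IsAffine (pullback c wbar).left := isAffine_of_isAffineHom p₂.left
  let _ : Algebra Γ(T.left, ⊤) Γ(Wbar.left, ⊤) := (sharp wbar).toAlgebra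
  obtain ⟨ψ, hψ⟩ := exists_ringEquiv_of_isPullback sqWb.flip rfl rfl
  -- identification `M ≃ Γ(W̄)`
  have I1 : wbar₀.appTop = φA ≫ (Scheme.ΓSpecIso (.of M)).inv := by
    change (Spec.map φA ≫ T.left.isoSpec.inv).appTop = _
    rw [Scheme.Hom.comp_appTop, isoSpec_inv_appTop', Scheme.ΓSpecIso_inv_naturality]
    rfl
  have I2 : (Scheme.ΓSpecIso (.of M)).inv ≫ κ₀.appTop = φM := by
    change _ ≫ (W'.left.toSpecΓ ≫ Spec.map φM).appTop = _
    rw [Scheme.Hom.comp_appTop, Scheme.toSpecΓ_appTop, ← Category.assoc,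
      ← Scheme.ΓSpecIso_inv_naturality, Category.assoc, Iso.inv_hom_id, Category.comp_id]
  let γ₀ : M ≃+* Γ(Wbar.left, ⊤) := (Scheme.ΓSpecIso (.of M)).symm.commRingCatIsoToRingEquiv
  have hγ₀ : ∀ m, γ₀ m = (Scheme.ΓSpecIso (.of M)).inv.hom m := fun m => rfl
  let γ : M ≃ₐ[Γ(T.left, ⊤)] Γ(Wbar.left, ⊤) :=
    { γ₀ with
      commutes' := fun r => by
        change γ₀ (algebraMap Γ(T.left, ⊤) M r) = sharp wbar r
        rw [hγ₀]
        have := congrArg (fun φ => φ.hom r) I1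
        exact this.symm }
  have hκγ : ∀ m : M, sharp κ (γ m) = (m : Γ(W'.left, ⊤)) := fun m => by
    have := congrArg (fun φ => φ.hom m) I2
    exact this
  let Ψ : Γ(T'.left, ⊤) ⊗[Γ(T.left, ⊤)] M ≃ₐ[Γ(T.left, ⊤)]
      Γ(T'.left, ⊤) ⊗[Γ(T.left, ⊤)] Γ(Wbar.left, ⊤) :=
    Algebra.TensorProduct.congr AlgEquiv.refl γ
  have hΨ : ∀ a m, Ψ (a ⊗ₜ m) = a ⊗ₜ γ m := fun a m => rfl
  have hjΨ : ∀ z, sharp j (ψ (Ψ z)) = descMul θ z := by
    intro z
    induction z using TensorProduct.induction_on with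
    | zero => simp
    | tmul a m =>
      rw [hΨ, hψ, map_mul, ← sharp_comp_apply, ← sharp_comp_apply, hj1, hj2, hκγ, descMul_tmul]
      rfl
    | add x y hx hy => simp only [map_add, hx, hy]
  have hjbij : Function.Bijective (sharp j) := by
    have h0 : (sharp j : _ → _) = (descMul θ) ∘ Ψ.symm ∘ ψ.symm := by
      funext y
      obtain ⟨z, rfl⟩ := ψ.surjective y
      obtain ⟨z', rfl⟩ := Ψ.surjective z
      simp only [Function.comp_apply, RingEquiv.symm_apply_apply, AlgEquiv.symm_apply_apply]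
      exact hjΨ z'
    rw [h0]
    exact hbij.comp (Ψ.symm.bijective.comp ψ.symm.bijective)
  have hjiso : IsIso j.left.appTop :=
    (ConcreteCategory.isIso_iff_bijective j.left.appTop).2 hjbij
  have hjopen : IsOpenImmersion j.left := by
    have hnat := Scheme.toSpecΓ_naturality j.left
    have h1 : IsOpenImmersion (j.left ≫ (pullback c wbar).left.toSpecΓ) := by
      rw [hnat]
      infer_instance
    exact IsOpenImmersion.of_comp j.left (pullback c wbar).left.toSpecΓ
  -- descend the open immersion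
  have hp₂1 : Flat p₂.left := by
    rw [hp₂, left_pullback_snd_iff @Flat]
    exact MorphismProperty.pullback_snd (P := @Flat) _ _ inferInstance
  have hp₂2 : LocallyOfFinitePresentation p₂.left := by
    rw [hp₂, left_pullback_snd_iff @LocallyOfFinitePresentation]
    exact MorphismProperty.pullback_snd (P := @LocallyOfFinitePresentation) _ _ inferInstance
  have hp₂3 : Surjective p₂.left := by
    rw [hp₂, left_pullback_snd_iff @Surjective]
    exact MorphismProperty.pullback_snd (P := @Surjective) _ _ inferInstance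
  have hgopen : RepWith @IsOpenImmersion g :=
    repWith_isOpenImmersion_of_baseChange ((repWith_yon_map_iff @Flat _).2 hp₂1)
      ((repWith_yon_map_iff @LocallyOfFinitePresentation _).2 hp₂2)
      ((repWith_yon_map_iff @Surjective _).2 hp₂3) sqTop
      ((repWith_yon_map_iff @IsOpenImmersion _).2 hjopen)
  have sqZ := hgopen.rep.isPullback (𝟙 ((yon S).obj Wbar))
  have : IsIso (hgopen.rep.fst (𝟙 ((yon S).obj Wbar))) := sqZ.isIso_fst_of_isIso
  refine ⟨_, hgopen.rep.snd (𝟙 ((yon S).obj Wbar)) ≫ wbar,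
    asIso (hgopen.rep.fst (𝟙 ((yon S).obj Wbar))), ?_, ?_⟩
  · rw [asIso_hom, ← hgπ, ← Category.assoc, sqZ.w, Category.comp_id, Functor.map_comp]
  -- the descended scheme is quasi-affine
  set j₀ := hgopen.rep.snd (𝟙 ((yon S).obj Wbar)) with hj₀
  set fst₀ := hgopen.rep.fst (𝟙 ((yon S).obj Wbar)) with hfst₀
  have hj₀open : IsOpenImmersion j₀.left := hgopen.property_snd _
  have hg' : g = inv fst₀ ≫ (yon S).map j₀ := by
    rw [IsIso.eq_inv_comp, sqZ.w, Category.comp_id]
  obtain ⟨w', hw'⟩ := (yon S).map_surjective (u ≫ inv fst₀)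
  have sqW : IsPullback ((yon S).map w') ((yon S).map j) ((yon S).map j₀) ((yon S).map p₂) := by
    rw [hw']
    have := sqTop
    rw [hg'] at this
    exact IsPullback.of_iso this (Iso.refl _) (asIso fst₀).symm (Iso.refl _) (Iso.refl _)
      (by simp) (by simp) (by simp) (by simp)
  have sqW' : IsPullback w' j j₀ p₂ := IsPullback.of_map_of_faithful (yon S) sqW
  have sqWS : IsPullback w'.left j.left j₀.left p₂.left := sqW'.map (Over.forget S)
  have hw'surj : Surjective w'.left :=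
    MorphismProperty.of_isPullback (P := @Surjective) sqWS.flip hp₂3
  have : CompactSpace ↥W'.left := inferInstance
  have : CompactSpace ↥(hgopen.rep.pullback (𝟙 ((yon S).obj Wbar))).left :=
    Function.Surjective.compactSpace w'.left.continuous w'.left.surjective
  have : Wbar.left.IsQuasiAffine := inferInstance
  exact Scheme.IsQuasiAffine.of_isImmersion j₀.left

/-- **Effective descent for quasi-affine morphisms** (sheaf version). -/
theorem exists_descent_of_isQuasiAffine [IsAffine T.left] [IsAffine T'.left]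
    [W'.left.IsQuasiAffine] [Flat c.left] [Surjective c.left]
    [LocallyOfFinitePresentation c.left]
    (sq : IsPullback u ((yon S).map v) π ((yon S).map c)) :
    ∃ (W : Over S) (w : W ⟶ T) (e : (yon S).obj W ≅ F), e.hom ≫ π = (yon S).map w := by
  obtain ⟨W, w, e, he, -⟩ := exists_descent_of_isQuasiAffine' c v π u sq
  exact ⟨W, w, e, he⟩

end

end Groth.Agent.H5.Descent
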